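import Groth.Agent.CommutatorLib.Weyl

/-!
# Finitely generated dense subgroups of points in characteristic zero
-/

set_option autoImplicit false
set_option linter.style.haveILetI false
set_option linter.unusedSectionVars false
set_option backward.isDefEq.respectTransparency false
set_option maxHeartbeats 1000000
set_option synthInstance.maxHeartbeats 400000

universe u

open WithConv
open scoped TensorProduct

noncomputable section

namespace Groth.Agent.CommutatorLib

open Groth.Agent.BorelLib
attribute [local instance] BorelLib.pTop BorelLib.pTopTensor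

variable {k : Type u} [Field k] [IsAlgClosed k] [CharZero k] {A : Type u} [CommRing A] [HopfAlgebra k A]
  [Algebra.FiniteType k A] {B : Subgroup (Pt k A)}

/-- The closed subgroup generated by a finite set. -/
def gen (F : Finset (Pt k A)) : Subgroup (Pt k A) := clSub (Subgroup.closure (F : Set (Pt k A)))

theorem isClosed_gen (F : Finset (Pt k A)) : IsClosed (gen F : Set (Pt k A)) := isClosed_clSub _

theorem mem_gen {F : Finset (Pt k A)} {x : Pt k A} (h : x ∈ F) : x ∈ gen F :=
  le_clSub _ (Subgroup.subset_closure h)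

theorem gen_mono {F F' : Finset (Pt k A)} (h : F ⊆ F') : gen F ≤ gen F' :=
  clSub_le (isClosed_gen F') ((Subgroup.closure_le _).2 fun _ hx => mem_gen (h hx))

/-- The primes give a character of a lattice. -/
def primeCh (k : Type u) [Field k] [CharZero k] (r : ℕ) : Multiplicative (Fin r → ℤ) →* k where
  toFun m := ∏ i : Fin r, ((Nat.nth Nat.Prime i : ℕ) : k) ^ (Multiplicative.toAdd m i)
  map_one' := by simp
  map_mul' m m' := by
    simp only [toAdd_mul, Pi.add_apply]
    rw [← Finset.prod_mul_distrib]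
    exact Finset.prod_congr rfl fun i _ => zpow_add₀ (Nat.cast_ne_zero.2 (Nat.prime_nth_prime _).ne_zero) _ _

theorem primeCh_injective (k : Type u) [Field k] [CharZero k] (r : ℕ) : Function.Injective (primeCh k r) := by
  intro m m' h
  refine Multiplicative.toAdd.injective (funext fun j => ?_)
  let p : Fin r → ℕ := fun i => Nat.nth Nat.Prime i
  have hp : ∀ i, (p i).Prime := fun i => Nat.prime_nth_prime _
  have hval : ∀ n : Fin r → ℤ, padicValRat (p j) (∏ i : Fin r, (p i : ℚ) ^ n i) = n j := fun n => by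
    haveI := Fact.mk (hp j)
    have h1 : ∀ s : Finset (Fin r), padicValRat (p j) (∏ i ∈ s, (p i : ℚ) ^ n i) = ∑ i ∈ s, n i * padicValRat (p j) (p i) := by
      intro s
      induction s using Finset.induction_on with
      | empty => simp
      | @insert a s ha ih =>
        rw [Finset.prod_insert ha, Finset.sum_insert ha, padicValRat.mul (zpow_ne_zero _ (Nat.cast_ne_zero.2 (hp a).ne_zero))
          (Finset.prod_ne_zero_iff.2 fun i _ => zpow_ne_zero _ (Nat.cast_ne_zero.2 (hp i).ne_zero)), ih,
          padicValRat.zpow]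
    rw [h1, Finset.sum_eq_single j]
    · rw [padicValRat.self (hp j).one_lt, mul_one]
    · intro i _ hij
      have hne : p i ≠ p j := fun e => hij (Fin.ext (Nat.nth_injective Nat.infinite_setOfPred_prime e))
      have hdvd : ¬ p j ∣ p i := fun hd => hne ((Nat.prime_dvd_prime_iff_eq (hp j) (hp i)).1 hd).symm
      rw [padicValRat.of_nat, padicValNat.eq_zero_of_not_dvd hdvd, Nat.cast_zero, mul_zero]
    · intro h; exact absurd (Finset.mem_univ j) h
  have hq : ∀ n : Multiplicative (Fin r → ℤ),
      algebraMap ℚ k (∏ i : Fin r, (p i : ℚ) ^ (Multiplicative.toAdd n i)) = primeCh k r n := fun n => by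
    simp [primeCh, p, map_prod, map_zpow₀]
  rw [← hq, ← hq] at h
  have h2 := congrArg (padicValRat (p j)) ((algebraMap ℚ k).injective h)
  rwa [hval, hval] at h2

/-- The terms of the unipotent filtration are topologically finitely generated. -/
theorem exists_gen_U (hBc : IsClosed (B : Set (Pt k A))) (D : FlagRep B) (i : ℕ) :
    ∃ F : Finset (Pt k A), (∀ x ∈ F, x ∈ B) ∧ D.U (i + 1) ≤ gen F := by
  classical
  obtain ⟨N, hN⟩ := D.exists_U_bot
  suffices hU : ∀ j i, N ≤ i + 1 + j → ∃ F : Finset (Pt k A), (∀ x ∈ F, x ∈ B) ∧ D.U (i + 1) ≤ gen F from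
    hU N i (by omega)
  clear i
  intro j
  induction j with
  | zero =>
    intro i hi
    refine ⟨∅, by simp, fun u hu => ?_⟩
    have := D.U_anti (show N ≤ i + 1 by omega) hu
    rw [hN, Subgroup.mem_bot] at this
    rw [this]
    exact Subgroup.one_mem _
  | succ j ih =>
    intro i hi
    obtain ⟨F₁, hF₁B, hF₁⟩ := ih (i + 1) (by omega)
    let ql : Pt k A → Module.End k D.V ⧸ D.low (i + 2) := fun g => (D.low (i + 2)).mkQ (D.r.ρ g - 1)
    have hreg : ∀ ψ : (Module.End k D.V ⧸ D.low (i + 2)) →ₗ[k] k, IsReg fun g => ψ (ql g) := fun ψ => by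
      let ψ' : Module.End k D.V →ₗ[k] k := ψ ∘ₗ (D.low (i + 2)).mkQ
      have e : (fun g => ψ (ql g)) = fun g => ψ' (D.r.ρ g) - ψ' 1 := funext fun g => map_sub ψ' _ _
      rw [e]
      refine IsReg.sub ?_ (IsReg.const _)
      let bV := Module.finBasis k D.V
      have e2 : (fun g => ψ' (D.r.ρ g)) =
          fun g => ∑ p, ∑ q, bV.coord p (D.r.ρ g (bV q)) * ψ' (LinearMap.toMatrix bV bV |>.symm (Matrix.single p q 1)) := by
        funext g
        conv_lhs => rw [← (LinearMap.toMatrix bV bV).symm_apply_apply (D.r.ρ g),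
          Matrix.matrix_eq_sum_single (LinearMap.toMatrix bV bV (D.r.ρ g))]
        simp only [map_sum]
        refine Finset.sum_congr rfl fun p _ => Finset.sum_congr rfl fun q _ => ?_
        rw [LinearMap.toMatrix_apply, Module.Basis.coord_apply,
          show ∀ c : k, Matrix.single p q c = c • Matrix.single p q (1 : k) from fun c => by
            rw [Matrix.smul_single, smul_eq_mul, mul_one], map_smul, map_smul, smul_eq_mul]
      rw [e2]
      exact IsReg.sum _ fun p _ => IsReg.sum _ fun q _ => (D.r.reg _ _).mul (IsReg.const _)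
    have hadd : ∀ a ∈ D.U (i + 1), ∀ c ∈ D.U (i + 1), ql (a * c) = ql a + ql c := fun a ha c hc => by
      show (D.low (i + 2)).mkQ _ = (D.low (i + 2)).mkQ _ + (D.low (i + 2)).mkQ _
      rw [← map_add, ← sub_eq_zero, ← map_sub, Submodule.mkQ_apply, Submodule.Quotient.mk_eq_zero, D.ρ_mul,
        show D.r.ρ a * D.r.ρ c - 1 - (D.r.ρ a - 1 + (D.r.ρ c - 1)) = (D.r.ρ a - 1) * (D.r.ρ c - 1) by
          simp only [mul_sub, sub_mul, one_mul, mul_one]; abel]
      exact D.low_anti (by omega) (D.low_mul ha.2 hc.2)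
    obtain ⟨S, hS, hSspan⟩ := Submodule.fg_span_iff_fg_span_finset_subset (ql '' (D.U (i + 1) : Set (Pt k A))) |>.1
      (IsNoetherian.noetherian (Submodule.span k (ql '' (D.U (i + 1) : Set (Pt k A)))))
    have hpre : ∀ s : S, ∃ a ∈ D.U (i + 1), ql a = s.1 := fun s => hS s.2
    choose a ha hae using hpre
    refine ⟨F₁ ∪ Finset.univ.image a, fun x hx => ?_, fun u hu => ?_⟩
    · rcases Finset.mem_union.1 hx with hx | hx
      · exact hF₁B x hx
      · obtain ⟨s, -, rfl⟩ := Finset.mem_image.1 hx
        exact (ha s).1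
    set H := gen (F₁ ∪ Finset.univ.image a) with hH
    let Pm : Submodule k (Module.End k D.V ⧸ D.low (i + 2)) :=
      { carrier := ql '' ((H ⊓ D.U (i + 1) : Subgroup (Pt k A)) : Set (Pt k A))
        zero_mem' := ⟨1, Subgroup.one_mem _, by simp [ql, D.r.map_one]⟩
        add_mem' := by
          rintro _ _ ⟨x, hx, rfl⟩ ⟨y, hy, rfl⟩
          exact ⟨x * y, Subgroup.mul_mem _ hx hy, hadd x hx.2 y hy.2⟩
        smul_mem' := by
          rintro c _ ⟨x, hx, rfl⟩
          exact exists_smul_of_charZero (P := H ⊓ D.U (i + 1)) ((isClosed_gen _).inter (D.isClosed_U hBc _)) ql hreg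
            (fun x hx y hy => hadd x hx.2 y hy.2) hx c }
    have hle : Submodule.span k (ql '' (D.U (i + 1) : Set (Pt k A))) ≤ Pm := by
      rw [hSspan, Submodule.span_le]
      intro s hs
      exact ⟨a ⟨s, hs⟩, ⟨mem_gen (Finset.mem_union_right _ (Finset.mem_image_of_mem _ (Finset.mem_univ _))),
        ha _⟩, hae _⟩
    obtain ⟨w, ⟨hwH, hwU⟩, hwe⟩ := hle (Submodule.subset_span ⟨u, hu, rfl⟩)
    have h2 : w⁻¹ * u ∈ D.U (i + 2) := by
      refine ⟨B.mul_mem (inv_mem hwU.1) hu.1, ?_⟩
      rw [show D.r.ρ (w⁻¹ * u) - 1 = D.r.ρ w⁻¹ * (D.r.ρ u - D.r.ρ w) by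
        rw [mul_sub, ← D.ρ_mul, ← D.ρ_mul, inv_mul_cancel, D.r.map_one]]
      have h0 : D.r.ρ u - D.r.ρ w ∈ D.low (i + 2) := by
        have := sub_eq_zero.2 hwe.symm
        rw [← map_sub, Submodule.mkQ_apply, Submodule.Quotient.mk_eq_zero] at this
        simpa using this
      simpa using D.low_mul (D.ρ_mem_low (inv_mem hwU.1)) h0
    have := H.mul_mem hwH (gen_mono Finset.subset_union_left (hF₁ h2))
    rwa [mul_inv_cancel_left] at this

/-- Powers of the prime point are dense in a split torus. -/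
theorem eq_zero_of_powers {r : ℕ} {M : ℕ} (hM : M ≠ 0) (f : Lr k r)
    (hf : ∀ n : ℕ, (chPt (primeCh k r) ^ (M * n)).ofConv f = 0) : f = 0 := by
  classical
  have hf0 : ∀ n : ℕ, f.coeff.sum (fun m c => c * (primeCh k r m ^ M) ^ n) = 0 := fun n => by
    have hev : ∀ (m : Multiplicative (Fin r → ℤ)), (chPt (primeCh k r) ^ (M * n)).ofConv (MonoidAlgebra.single m 1) =
        (primeCh k r m ^ M) ^ n := fun m => by
      show lrEv m (chPt (primeCh k r) ^ (M * n)) = _
      rw [map_pow, pow_mul]
      simp [lrEv]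
    rw [← hf n]
    conv_rhs => rw [← MonoidAlgebra.sum_coeff_single f]
    rw [map_finsuppSum]
    refine Finsupp.sum_congr fun m _ => ?_
    rw [← hev, ← smul_eq_mul, ← map_smul, MonoidAlgebra.smul_single', mul_one]
  have hli : LinearIndependent k (fun m : Multiplicative (Fin r → ℤ) =>
      ((powersHom k (primeCh k r m ^ M) : Multiplicative ℕ →* k) : Multiplicative ℕ → k)) := by
    refine (linearIndependent_monoidHom (Multiplicative ℕ) k).comp _ ?_
    intro m m' e
    have e' := congrArg (fun φ : Multiplicative ℕ →* k => φ (Multiplicative.ofAdd 1)) e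
    simp only [powersHom_apply, toAdd_ofAdd, pow_one, ← map_pow] at e'
    have e2 := primeCh_injective k r e'
    refine Multiplicative.toAdd.injective (funext fun i => ?_)
    have e3 := congrFun (congrArg Multiplicative.toAdd e2) i
    simp only [toAdd_pow, Pi.smul_apply, nsmul_eq_mul] at e3
    exact mul_left_cancel₀ (Nat.cast_ne_zero.2 hM) e3
  have hz : f.coeff = 0 := linearIndependent_iff.1 hli _ (by
    funext n
    have := hf0 (Multiplicative.toAdd n)
    simpa [Finsupp.linearCombination_apply, Finsupp.sum, powersHom_apply] using this)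
  ext m
  simp [hz]

/-- **A connected solvable closed group is topologically finitely generated.** -/
theorem exists_gen_solvable (hBc : IsClosed (B : Set (Pt k A))) (hB : _root_.IsPreconnected (B : Set (Pt k A)))
    (hs : IsSol B) : ∃ F : Finset (Pt k A), (∀ x ∈ F, x ∈ B) ∧ B ≤ gen F := by
  classical
  obtain ⟨D, -⟩ := exists_flag_uni hBc hB hs
  obtain ⟨r, q, hq, hker, himg⟩ := D.exists_diag hBc hB
  obtain ⟨F₁, hF₁B, hF₁⟩ := exists_gen_U hBc D 0
  obtain ⟨b₀, hb₀⟩ := hq (chPt (primeCh k r))
  refine ⟨insert (b₀ : Pt k A) F₁, fun x hx => ?_, fun x hx => ?_⟩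
  · rcases Finset.mem_insert.1 hx with rfl | hx
    · exact b₀.2
    · exact hF₁B x hx
  set H := gen (insert (b₀ : Pt k A) F₁) ⊓ B with hH
  have hHc : IsClosed (H : Set (Pt k A)) := (isClosed_gen _).inter hBc
  obtain ⟨M, hM, hMmem⟩ := exists_pow_mem_neut hHc
  have hb₀H : (b₀ : Pt k A) ^ M ∈ neut H := hMmem _ ⟨mem_gen (Finset.mem_insert_self _ _), b₀.2⟩
  have hdense : (Set.univ : Set (Pt k (Lr k r))) ⊆ closure {y | ∃ s : B, (s : Pt k A) ∈ neut H ∧ q s = y} := by
    intro y _
    refine mem_closure_iff_forall.2 fun f hf => ?_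
    rw [eq_zero_of_powers hM f fun n => ?_, map_zero]
    refine hf _ ⟨b₀ ^ (M * n), ?_, ?_⟩
    · rw [Subgroup.coe_pow, pow_mul]
      exact (neut H).pow_mem hb₀H n
    · rw [map_pow, hb₀]
  obtain ⟨s, hs, hsx⟩ := himg (neut H) ((neut_le _).trans inf_le_right) (isClosed_neut hHc) (isPreconnected_neut _)
    hdense (q ⟨x, hx⟩)
  have h1 : ((s⁻¹ * ⟨x, hx⟩ : B) : Pt k A) ∈ D.U 1 := (hker _).1 ((q.map_mul s⁻¹ ⟨x, hx⟩).trans (by rw [← hsx, ← q.map_mul, inv_mul_cancel, q.map_one]))
  have h2 := (gen (insert (b₀ : Pt k A) F₁)).mul_mem (neut_le _ hs).1 (gen_mono (Finset.subset_insert _ _) (hF₁ h1))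
  simpa using h2

/-- **The group of points is topologically finitely generated.** -/
theorem exists_gen_top : ∃ F : Finset (Pt k A), gen F = ⊤ := by
  classical
  set K := neut (⊤ : Subgroup (Pt k A)) with hKdef
  have hTc : IsClosed ((⊤ : Subgroup (Pt k A)) : Set (Pt k A)) := by rw [Subgroup.coe_top]; exact isClosed_univ
  have hKc : IsClosed (K : Set (Pt k A)) := isClosed_neut hTc
  have hK : _root_.IsPreconnected (K : Set (Pt k A)) := isPreconnected_neut _
  obtain ⟨B, hB, -, -⟩ := IsBor.exists_conj_universal hKc hK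
  obtain ⟨F₀, hF₀B, hF₀⟩ := exists_gen_solvable hB.closed hB.conn hB.sol
  haveI : IsNoetherianRing A := Algebra.FiniteType.isNoetherianRing k A
  suffices h : ∀ (h₀ : ℕ∞) (F : Finset (Pt k A)), F₀ ⊆ F →
      (vanish (k := k) (neut (gen F) : Set (Pt k A))).height = h₀ → ∃ F' : Finset (Pt k A), K ≤ gen F' by
    obtain ⟨F, hF⟩ := h _ F₀ (Finset.Subset.refl _) rfl
    obtain ⟨R, -, hcov⟩ := exists_neut_cosets hTc
    refine ⟨F ∪ R, top_le_iff.1 fun x _ => ?_⟩
    obtain ⟨c, hc, hcx⟩ := hcov x trivial
    have := (gen (F ∪ R)).mul_mem (mem_gen (Finset.mem_union_right F hc)) (gen_mono Finset.subset_union_left (hF hcx))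
    rwa [mul_inv_cancel_left] at this
  intro h₀
  induction h₀ using WellFoundedLT.induction with
  | _ h₀ ih =>
    intro F hF hh
    by_cases hle : K ≤ gen F
    · exact ⟨F, hle⟩
    obtain ⟨g, hg, hgB⟩ : ∃ g ∈ K, ¬ conjSub g B ≤ neut (gen F) := by
      by_contra hno
      push Not at hno
      refine hle fun x hx => ?_
      obtain ⟨a, ha, hax⟩ := hB.exists_conj_mem hKc hK hx
      refine neut_le _ (hno a ha ?_)
      rw [mem_conjSub]
      simpa using hax
    let F' := F ∪ F₀.image fun f => g * f * g⁻¹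
    have hB' : conjSub g B ≤ neut (gen F') := le_neut (isPreconnected_conjSub hB.conn) fun x hx => by
      have hle' : gen F₀ ≤ (gen F').comap (MulAut.conj g).toMonoidHom := by
        refine clSub_le ((isClosed_gen F').preimage ((((IsMor.const g).mul IsMor.id).mul (IsMor.const g⁻¹))).continuous) ?_
        exact (Subgroup.closure_le _).2 fun f hf => mem_gen (Finset.mem_union_right _ (Finset.mem_image_of_mem _ hf))
      have h1 := hle' (hF₀ (mem_conjSub.1 hx))
      simpa [_root_.mul_assoc] using h1
    have hmono : neut (gen F) ≤ neut (gen F') :=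
      le_neut (isPreconnected_neut _) ((neut_le _).trans (gen_mono Finset.subset_union_left))
    have hirr : ∀ E : Finset (Pt k A), IsIrreducible (neut (gen E) : Set (Pt k A)) := fun E =>
      isIrreducible_of_connected (isClosed_neut (isClosed_gen E)) (isPreconnected_neut _)
    haveI := isPrime_vanish (hirr F)
    haveI := isPrime_vanish (hirr F')
    have hlt : vanish (k := k) (neut (gen F') : Set (Pt k A)) < vanish (k := k) (neut (gen F) : Set (Pt k A)) := by
      refine lt_of_le_of_ne (fun a ha => mem_vanish.2 fun x hx => mem_vanish.1 ha x (hmono hx)) fun e => ?_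
      have e' := congrArg (fun I : Ideal A => zeros (k := k) (I : Set A)) e
      simp only [zeros_vanish_of_isClosed (isClosed_neut (isClosed_gen _))] at e'
      exact hgB fun x hx => by
        have h1 : x ∈ (neut (gen F') : Set (Pt k A)) := hB' hx
        rwa [e'] at h1
    haveI : (vanish (k := k) (neut (gen F) : Set (Pt k A))).FiniteHeight := inferInstance
    exact ih _ (hh ▸ Ideal.height_strict_mono_of_isPrime_of_isPrime hlt) F' (hF.trans Finset.subset_union_left) rfl

end Groth.Agent.CommutatorLib
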