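import Groth.Agent.CommutatorLib.Weyl

/-!
# A Weyl element with finitely many fixed points; central elements as commutators
-/

set_option autoImplicit false
set_option linter.style.haveILetI false
set_option linter.unusedSectionVars false
set_option backward.isDefEq.respectTransparency false
set_option maxHeartbeats 1000000
set_option synthInstance.maxHeartbeats 400000

universe u

open WithConv
open scoped TensorProduct

noncomputable section

namespace Groth.Agent.CommutatorLib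

open Groth.Agent.BorelLib
attribute [local instance] BorelLib.pTop BorelLib.pTopTensor

variable {k : Type u} [Field k] [IsAlgClosed k] [CharZero k] {A : Type u} [CommRing A] [HopfAlgebra k A]
  [Algebra.FiniteType k A] {T B : Subgroup (Pt k A)}

/-- **A torus commuting with the centralisers of the singular tori commutes with the unipotent part.** -/
theorem commute_unipotent (hT : IsTor T) (D : FlagRep B) (hBc : IsClosed (B : Set (Pt k A))) (hTB : T ≤ B)
    {ι : Type*} [Fintype ι] (b : Module.Basis ι k D.V) (χ : ι → Pt k A → k)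
    (hb : ∀ i, ∀ s ∈ T, D.r.ρ s (b i) = χ i s • b i) (ν : ι × ι → Pt k A → k) (hν : ∀ p, IsCh T (ν p))
    (hνe : ∀ p : ι × ι, ∀ s ∈ T, ν p s = χ p.1 s * χ p.2 s⁻¹) {X : Subgroup (Pt k A)}
    (hX : ∀ p, ∀ g ∈ Subgroup.centralizer (sing T (hν p) : Set (Pt k A)), ∀ x ∈ X, g * x = x * g) :
    D.U 1 ≤ Subgroup.centralizer (X : Set (Pt k A)) := by
  classical
  obtain ⟨N, hN⟩ := D.exists_U_bot
  suffices ∀ j i, N ≤ i + 1 + j → D.U (i + 1) ≤ Subgroup.centralizer (X : Set (Pt k A)) from this N 0 (by omega)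
  intro j
  induction j with
  | zero =>
    intro i hi u hu
    have := D.U_anti (show N ≤ i + 1 by omega) hu
    rw [hN, Subgroup.mem_bot] at this
    rw [this]
    exact Subgroup.one_mem _
  | succ j ih =>
    intro i hi u hu
    have hnext : D.U (i + 2) ≤ Subgroup.centralizer (X : Set (Pt k A)) := ih (i + 1) (by omega)
    let q : Pt k A → Module.End k D.V ⧸ D.low (i + 2) := fun g => (D.low (i + 2)).mkQ (D.r.ρ g - 1)
    have hq : ∀ ψ : (Module.End k D.V ⧸ D.low (i + 2)) →ₗ[k] k, IsReg fun g => ψ (q g) := fun ψ => by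
      let ψ' : Module.End k D.V →ₗ[k] k := ψ ∘ₗ (D.low (i + 2)).mkQ
      have e : (fun g => ψ (q g)) = fun g => ψ' (D.r.ρ g) - ψ' 1 := funext fun g => map_sub ψ' _ _
      rw [e]
      refine IsReg.sub ?_ (IsReg.const _)
      let bV := Module.finBasis k D.V
      have e2 : (fun g => ψ' (D.r.ρ g)) =
          fun g => ∑ p, ∑ q, bV.coord p (D.r.ρ g (bV q)) * ψ' (LinearMap.toMatrix bV bV |>.symm (Matrix.single p q 1)) := by
        funext g
        conv_lhs => rw [← (LinearMap.toMatrix bV bV).symm_apply_apply (D.r.ρ g),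
          Matrix.matrix_eq_sum_single (LinearMap.toMatrix bV bV (D.r.ρ g))]
        simp only [map_sum]
        refine Finset.sum_congr rfl fun p _ => Finset.sum_congr rfl fun q _ => ?_
        rw [LinearMap.toMatrix_apply, Module.Basis.coord_apply,
          show ∀ c : k, Matrix.single p q c = c • Matrix.single p q (1 : k) from fun c => by
            rw [Matrix.smul_single, smul_eq_mul, mul_one], map_smul, map_smul, smul_eq_mul]
      rw [e2]
      exact IsReg.sum _ fun p _ => IsReg.sum _ fun q _ => (D.r.reg _ _).mul (IsReg.const _)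
    have hadd : ∀ a ∈ D.U (i + 1), ∀ c ∈ D.U (i + 1), q (a * c) = q a + q c := fun a ha c hc => by
      show (D.low (i + 2)).mkQ _ = (D.low (i + 2)).mkQ _ + (D.low (i + 2)).mkQ _
      rw [← map_add, ← sub_eq_zero, ← map_sub, Submodule.mkQ_apply, Submodule.Quotient.mk_eq_zero, D.ρ_mul,
        show D.r.ρ a * D.r.ρ c - 1 - (D.r.ρ a - 1 + (D.r.ρ c - 1)) = (D.r.ρ a - 1) * (D.r.ρ c - 1) by
          simp only [mul_sub, sub_mul, one_mul, mul_one]; abel]
      exact D.low_anti (by omega) (D.low_mul ha.2 hc.2)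
    have hq_eq : ∀ a ∈ D.U (i + 1), ∀ c ∈ D.U (i + 1), q a = q c → a⁻¹ * c ∈ D.U (i + 2) := fun a ha c hc h => by
      refine ⟨B.mul_mem (inv_mem ha.1) hc.1, ?_⟩
      rw [show D.r.ρ (a⁻¹ * c) - 1 = D.r.ρ a⁻¹ * (D.r.ρ c - D.r.ρ a) by
        rw [mul_sub, ← D.ρ_mul, ← D.ρ_mul, inv_mul_cancel, D.r.map_one]]
      have h0 : D.r.ρ c - D.r.ρ a ∈ D.low (i + 2) := by
        have := sub_eq_zero.2 h.symm
        rw [← map_sub, Submodule.mkQ_apply, Submodule.Quotient.mk_eq_zero] at this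
        simpa using this
      simpa using D.low_mul (D.ρ_mem_low (inv_mem ha.1)) h0
    let Ad : ↥T → Module.End k D.V →ₗ[k] Module.End k D.V := fun s =>
      (LinearMap.mulLeft k (D.r.ρ (s : Pt k A))).comp (LinearMap.mulRight k (D.r.ρ (s : Pt k A)⁻¹))
    have hAd : ∀ (s : ↥T) f, Ad s f = D.r.ρ (s : Pt k A) * (f * D.r.ρ (s : Pt k A)⁻¹) := fun s f => rfl
    have hAdlow : ∀ (s : ↥T) (f : Module.End k D.V), f ∈ D.low (i + 2) → Ad s f ∈ D.low (i + 2) := fun s f hf => by
      rw [hAd]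
      simpa using D.low_mul (D.ρ_mem_low (hTB s.2)) (D.low_mul hf (D.ρ_mem_low (inv_mem (hTB s.2))))
    have hAdq : ∀ (s : ↥T) (a : Pt k A), D.r.ρ ((s : Pt k A) * a * (s : Pt k A)⁻¹) - 1 = Ad s (D.r.ρ a - 1) := fun s a => by
      rw [hAd, D.ρ_mul, D.ρ_mul]
      simp only [mul_sub, sub_mul, one_mul]
      rw [← D.ρ_mul (s : Pt k A) (s : Pt k A)⁻¹, mul_inv_cancel, D.r.map_one, _root_.mul_assoc]
    let Pre : Submodule k (Module.End k D.V) :=
      { carrier := {f | ∃ a ∈ D.U (i + 1), (D.low (i + 2)).mkQ f = q a}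
        zero_mem' := ⟨1, Subgroup.one_mem _, by simp [q, D.r.map_one]⟩
        add_mem' := by
          rintro f f' ⟨a, ha, h⟩ ⟨c, hc, h'⟩
          exact ⟨a * c, (D.U (i + 1)).mul_mem ha hc, by rw [map_add, h, h', hadd a ha c hc]⟩
        smul_mem' := by
          rintro t f ⟨a, ha, h⟩
          obtain ⟨w, hw, hwe⟩ := exists_smul_of_charZero (D.isClosed_U hBc (i + 1)) q hq hadd ha t
          exact ⟨w, hw, by rw [map_smul, h, hwe]⟩ }
    have hPre : ∀ (s : ↥T), ∀ f ∈ Pre, Ad s f ∈ Pre := by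
      rintro s f ⟨a, ha, h⟩
      refine ⟨s * a * (s : Pt k A)⁻¹, D.conj_mem_U (hTB s.2) ha, ?_⟩
      show _ = (D.low (i + 2)).mkQ _
      rw [hAdq, ← sub_eq_zero, ← map_sub, ← map_sub, Submodule.mkQ_apply, Submodule.Quotient.mk_eq_zero]
      refine hAdlow s _ ?_
      have := sub_eq_zero.2 h
      rwa [← map_sub, Submodule.mkQ_apply, Submodule.Quotient.mk_eq_zero] at this
    let M := LinearMap.toMatrix b b (D.r.ρ u - 1)
    let e : ι × ι → Module.End k D.V := fun p => (LinearMap.toMatrix b b).symm (Matrix.single p.1 p.2 (M p.1 p.2))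
    have he : ∀ (p : ι × ι) (s : ↥T), Ad s (e p) = ν p s • e p := fun p s => by
      refine b.ext fun l => ?_
      have hel : ∀ l, e p (b l) = if p.2 = l then M p.1 p.2 • b p.1 else 0 := fun l => by
        rw [show e p = Matrix.toLin b b (Matrix.single p.1 p.2 (M p.1 p.2)) from rfl, Matrix.toLin_self]
        simp [Matrix.single_apply, ite_and, Finset.sum_ite_eq']
        all_goals (split_ifs <;> simp_all)
      rw [hAd]
      simp only [Module.End.mul_apply, LinearMap.smul_apply]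
      rw [hb l _ (inv_mem s.2), map_smul, map_smul, hel]
      split_ifs with h
      · subst h
        rw [map_smul, hb _ _ s.2, hνe p s s.2, smul_smul, smul_smul, smul_smul]
        congr 1
        ring
      · rw [map_zero, smul_zero, smul_zero]
    have hsum : ∑ p, e p = D.r.ρ u - 1 := by
      apply (LinearMap.toMatrix b b).injective
      simp only [map_sum, e, LinearEquiv.apply_symm_apply]
      rw [Fintype.sum_prod_type]
      exact (Matrix.matrix_eq_sum_single M).symm
    have htot : ∑ p, e p ∈ Pre := ⟨u, hu, by rw [hsum]⟩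
    let G' : AddSubmonoid (Module.End k D.V) :=
      { carrier := {f | ∃ a ∈ D.U (i + 1) ⊓ Subgroup.centralizer (X : Set (Pt k A)), (D.low (i + 2)).mkQ f = q a}
        zero_mem' := ⟨1, Subgroup.one_mem _, by simp [q, D.r.map_one]⟩
        add_mem' := by
          rintro f f' ⟨a, ha, h⟩ ⟨c, hc, h'⟩
          exact ⟨a * c, Subgroup.mul_mem _ ha hc, by rw [map_add, h, h', hadd a ha.1 c hc.1]⟩ }
    let cl : ι × ι → (↥T → k) := fun p s => ν p s
    have hclass : ∀ p₀, ∑ p ∈ Finset.univ.filter (fun p => cl p = cl p₀), e p ∈ G' := by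
      intro p₀
      have hmem := component_mem (fun s : ↥T => Ad s) cl Pre hPre (Finset.univ.filter fun p => cl p = cl p₀) (cl p₀)
        (fun p hp => (Finset.mem_filter.1 hp).2) (Finset.univ.filter fun p => ¬ cl p = cl p₀)
        (fun p hp => (Finset.mem_filter.1 hp).2) e (fun p s => he p s) (by
          rwa [Finset.sum_filter_add_sum_filter_not])
      obtain ⟨a, ha, hae⟩ := hmem
      set f := ∑ p ∈ Finset.univ.filter (fun p => cl p = cl p₀), e p with hf
      have heig : ∀ s : ↥T, Ad s f = cl p₀ s • f := fun s => by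
        rw [hf, map_sum, Finset.smul_sum]
        refine Finset.sum_congr rfl fun p hp => ?_
        rw [he p s, show ν p s = cl p₀ s from congrFun (Finset.mem_filter.1 hp).2 s]
      set S₀ := sing T (hν p₀)
      obtain ⟨t, htS, htpt, hreg⟩ := (isTor_sing hT (hν p₀)).exists_regular
      have htker := neut_le _ htS
      have htT : t ∈ T := htker.1
      have hconj : a⁻¹ * (t * a * t⁻¹) ∈ D.U (i + 2) := by
        refine hq_eq a ha _ (D.conj_mem_U (hTB htT) ha) ?_
        show _ = (D.low (i + 2)).mkQ _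
        rw [hAdq ⟨t, htT⟩, ← hae, ← sub_eq_zero, ← map_sub, Submodule.mkQ_apply, Submodule.Quotient.mk_eq_zero]
        have h0 : f - (D.r.ρ a - 1) ∈ D.low (i + 2) := by
          have := sub_eq_zero.2 hae
          rwa [← map_sub, Submodule.mkQ_apply, Submodule.Quotient.mk_eq_zero] at this
        have h1 := hAdlow ⟨t, htT⟩ _ h0
        rwa [map_sub, heig, show cl p₀ ⟨t, htT⟩ = 1 from htker.2, one_smul] at h1
      obtain ⟨m, hm, htm⟩ := htpt
      have hlay : IsLayered (fun l => (D.U (i + 1 + l + 1)).subgroupOf B) m := by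
        have h := D.isLayered hBc le_rfl hBc hm
        exact ⟨fun l => h.normal (i + 1 + l), fun l => h.anti (i + 1 + l), fun l => h.comm (i + 1 + l),
          fun l => h.tf (i + 1 + l), fun l => h.div (i + 1 + l), h.top.elim fun N' hN' => ⟨N', by
            refine le_bot_iff.1 (le_trans ?_ hN'.le)
            exact fun x hx => D.U_anti (by omega) hx⟩⟩
      obtain ⟨w, hw, hwe⟩ := hlay.exists_conj (x := ⟨t, hTB htT⟩)
        (x' := ⟨a * t * a⁻¹, B.mul_mem (B.mul_mem ha.1 (hTB htT)) (inv_mem ha.1)⟩)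
        (Subtype.ext htm) (Subtype.ext (by show (a * t * a⁻¹) ^ m = 1; rw [conj_pow, htm]; group)) (by
          show a * t * a⁻¹ * t⁻¹ ∈ D.U (i + 2)
          have := D.conj_mem_U ha.1 ((D.U (i + 2)).inv_mem hconj)
          have e : a * t * a⁻¹ * t⁻¹ = a * (a⁻¹ * (t * a * t⁻¹))⁻¹ * a⁻¹ := by group
          rw [e]
          exact this)
      have hw' : (w : Pt k A) ∈ D.U (i + 2) := hw
      have hwe' : (w : Pt k A) * t * (w : Pt k A)⁻¹ = a * t * a⁻¹ := congrArg Subtype.val hwe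
      have hcomm : (w : Pt k A)⁻¹ * a * t = t * ((w : Pt k A)⁻¹ * a) := by
        calc (w : Pt k A)⁻¹ * a * t = (w : Pt k A)⁻¹ * (a * t * a⁻¹) * a := by group
          _ = t * ((w : Pt k A)⁻¹ * a) := by rw [← hwe']; group
      have hwU : (w : Pt k A)⁻¹ * a ∈ D.U (i + 1) := (D.U (i + 1)).mul_mem (inv_mem (D.U_anti (by omega) hw')) ha
      refine ⟨(w : Pt k A)⁻¹ * a, ⟨hwU, Subgroup.mem_centralizer_iff.2 fun x hx => ?_⟩, ?_⟩
      · exact (hX p₀ _ (Subgroup.mem_centralizer_iff.2 fun s hs => (hreg _ hcomm s hs).symm) x hx).symm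
      · rw [hae, hadd _ (inv_mem (D.U_anti (by omega) hw')) _ ha]
        refine (add_eq_right.2 ?_).symm
        show (D.low (i + 2)).mkQ _ = 0
        rw [Submodule.mkQ_apply, Submodule.Quotient.mk_eq_zero]
        exact ((D.U (i + 2)).inv_mem hw').2
    have hall : ∑ p, e p ∈ G' := by
      rw [← Finset.sum_fiberwise_of_maps_to (g := cl) (t := Finset.univ.image cl) fun p _ => Finset.mem_image_of_mem _ (Finset.mem_univ p)]
      refine sum_mem fun c hc => ?_
      obtain ⟨p₀, -, rfl⟩ := Finset.mem_image.1 hc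
      exact hclass p₀
    obtain ⟨a, ⟨ha, haX⟩, hae⟩ := hall
    rw [hsum] at hae
    have := Subgroup.mul_mem _ haX (hnext (hq_eq a ha u hu hae.symm))
    rwa [mul_inv_cancel_left] at this

/-- **A Weyl element with finitely many fixed points.** -/
theorem exists_regular_weyl (hconn : _root_.IsPreconnected (Set.univ : Set (Pt k A))) (hred : IsRedPts k A)
    (hss : IsSSPts k A) (hT : IsMaxTor ⊤ T)
    (hBC : ∀ B : Subgroup (Pt k A), IsBor ⊤ B → ∀ x, (∀ b ∈ B, x * b = b * x) → ∀ g, g * x = x * g) :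
    ∃ n ∈ Nor T, neut (Fix T {n}) = ⊥ := by
  classical
  have hKc : IsClosed ((⊤ : Subgroup (Pt k A)) : Set (Pt k A)) := by rw [Subgroup.coe_top]; exact isClosed_univ
  have hK : _root_.IsPreconnected ((⊤ : Subgroup (Pt k A)) : Set (Pt k A)) := by rwa [Subgroup.coe_top]
  obtain ⟨B₀, hB₀, -, -⟩ := IsBor.exists_conj_universal hKc hK
  obtain ⟨g₀, -, hg₀⟩ := hB₀.exists_conj_le hKc hK le_top hT.tor.conn hT.tor.isSol
  have hB := hB₀.conjSub (a := g₀⁻¹) trivial
  have hTB : T ≤ conjSub g₀⁻¹ B₀ := by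
    have := conjSub_mono (a := g₀⁻¹) hg₀
    rwa [conjSub_conjSub, inv_mul_cancel, conjSub_one] at this
  set B := conjSub g₀⁻¹ B₀
  obtain ⟨D, hD⟩ := exists_flag_uni hB.closed hB.conn hB.sol
  obtain ⟨ι, _, b, χ, hχ, hb⟩ := hT.tor.exists_weight_basis D.r
  have hχ1 : ∀ i, χ i 1 = 1 := fun i => by
    have h := hb i 1 T.one_mem
    rw [D.r.map_one, Module.End.one_apply] at h
    exact (smul_left_injective k (b.ne_zero i) (a₁ := χ i 1) (a₂ := 1) (by simpa using h.symm))
  have hχm : ∀ i, ∀ s ∈ T, ∀ t ∈ T, χ i (s * t) = χ i s * χ i t := fun i s hs t ht => by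
    have h := hb i _ (T.mul_mem hs ht)
    rw [D.ρ_mul, Module.End.mul_apply, hb i t ht, map_smul, hb i s hs, smul_smul] at h
    rw [mul_comm]
    exact (smul_left_injective k (b.ne_zero i) h).symm
  let ν : ι × ι → Pt k A → k := fun p s => χ p.1 s * χ p.2 s⁻¹
  have hν : ∀ p, IsCh T (ν p) := fun p =>
    ⟨(hχ p.1).mul ((hχ p.2).comp IsMor.id.inv), by simp [ν, hχ1], fun s hs t ht => by
      simp only [ν]
      rw [mul_inv_rev, hT.tor.comm _ (inv_mem ht) _ (inv_mem hs), hχm _ s hs t ht, hχm _ _ (inv_mem hs) _ (inv_mem ht)]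
      ring⟩
  let Good : Finset (ι × ι) := Finset.univ.filter fun p => ¬ Subgroup.centralizer (sing T (hν p) : Set (Pt k A)) ≤ T
  have hrefl : ∀ p : Good, ∃ n ∈ Nor T, (∀ s ∈ sing T (hν p.1), n * s = s * n) ∧ ∃ t ∈ T, n * t ≠ t * n := fun p =>
    exists_refl hconn hred hT (isTor_sing hT.tor (hν p.1)) ((neut_le _).trans (kerC_le (hν p.1))) (Finset.mem_filter.1 p.2).2
  choose n hnN hnS hnne using hrefl
  let E : Finset (Pt k A) := Finset.univ.image n
  have hEN : (E : Set (Pt k A)) ⊆ Nor T := by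
    intro x hx
    obtain ⟨p, -, rfl⟩ := Finset.mem_image.1 (Finset.mem_coe.1 hx)
    exact hnN p
  -- nothing connected is fixed by all reflections
  have hfixE : neut (Fix T (E : Set (Pt k A))) = ⊥ := by
    set X := neut (Fix T (E : Set (Pt k A))) with hXdef
    have hXT : X ≤ T := (neut_le _).trans inf_le_left
    have hXc : ∀ p, ∀ g ∈ Subgroup.centralizer (sing T (hν p) : Set (Pt k A)), ∀ x ∈ X, g * x = x * g := by
      intro p g hg x hx
      by_cases hp : Subgroup.centralizer (sing T (hν p) : Set (Pt k A)) ≤ T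
      · exact hT.tor.comm g (hp hg) x (hXT hx)
      let p' : Good := ⟨p, Finset.mem_filter.2 ⟨Finset.mem_univ _, hp⟩⟩
      have hle : neut (Fix T {n p'}) ≤ sing T (hν p) := neut_le_sing hT.tor (hν p) (isClosed_Fix hT.tor _)
        inf_le_left (fun s hs => mem_Fix.2 ⟨(kerC_le (hν p)) (neut_le _ hs), fun y hy => by
          rw [Set.mem_singleton_iff.1 hy]; exact hnS p' s hs⟩) (fun h => by
          obtain ⟨t, ht, hne⟩ := hnne p'
          exact hne ((mem_Fix.1 (h ht)).2 _ rfl))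
      have hx' : x ∈ neut (Fix T {n p'}) := le_neut (isPreconnected_neut _) (fun y hy => mem_Fix.2
        ⟨hXT hy, fun z hz => by
          rw [Set.mem_singleton_iff.1 hz]
          exact (mem_Fix.1 (neut_le _ hy)).2 _ (Finset.mem_coe.2 (Finset.mem_image_of_mem _ (Finset.mem_univ _)))⟩) hx
      exact (Subgroup.mem_centralizer_iff.1 hg x (hle hx')).symm
    have hU := commute_unipotent hT.tor D hB.closed hTB b χ hb ν hν (fun p s _ => rfl) hXc
    obtain ⟨S₁, hS₁B, hS₁, hu₁, hdec, -⟩ := D.exists_torus_decomp hB.closed hB.conn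
    obtain ⟨g, hg, hgT⟩ := hu₁ T hTB hT.tor
    have hgS : T = conjSub g⁻¹ S₁ := by
      refine (hT.maximal _ le_top (hS₁.conjSub _) ?_).symm
      have := conjSub_mono (a := g⁻¹) hgT
      rwa [conjSub_conjSub, inv_mul_cancel, conjSub_one] at this
    have hcenB : ∀ x ∈ X, ∀ c ∈ B, x * c = c * x := by
      intro x hx c hc
      obtain ⟨s, hs, hsU⟩ := hdec (g * c * g⁻¹) (B.mul_mem (B.mul_mem hg hc) (inv_mem hg))
      have h1 : g⁻¹ * s * g ∈ T := by
        rw [hgS]
        exact ⟨s, hs, by simp⟩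
      have h2 : g⁻¹ * (s⁻¹ * (g * c * g⁻¹)) * g ∈ D.U 1 := by
        simpa using D.conj_mem_U (inv_mem hg) hsU
      have e : c = (g⁻¹ * s * g) * (g⁻¹ * (s⁻¹ * (g * c * g⁻¹)) * g) := by group
      rw [e]
      exact (Commute.mul_right (hT.tor.comm x (hXT hx) _ h1) (Subgroup.mem_centralizer_iff.1 (hU h2) x hx)).eq
    refine le_bot_iff.1 ((le_radSub hconn (isPreconnected_neut _) (fun a => ?_) (hT.tor.of_le hXT
      (isClosed_neut (isClosed_Fix hT.tor _)) (isPreconnected_neut _)).isSol).trans (hss.radSub_eq_bot hconn).le)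
    rintro _ ⟨x, hx, rfl⟩
    have h := hBC B hB x (hcenB x hx) a
    show a * x * a⁻¹ ∈ X
    rw [h, mul_inv_cancel_right]
    exact hx
  -- select an independent family
  have hsel : ∀ F : Finset (Pt k A), F ⊆ E → ∃ n₀ ∈ Nor T, ∃ P : Subgroup (Pt k A), P ≤ T ∧
      IsClosed (P : Set (Pt k A)) ∧ _root_.IsPreconnected (P : Set (Pt k A)) ∧ (∀ m ∈ F, ∀ t ∈ T, φc m t ∈ P) ∧
      (∀ t ∈ T, φc n₀ t ∈ P) ∧ ∃ l : Set (Pt k A), l ⊆ F ∧
        (∀ Q : Subgroup (Pt k A), Q ≤ T → (∀ m ∈ l, ∀ t ∈ T, φc m t ∈ Q) → P ≤ Q) ∧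
        ∀ X : Subgroup (Pt k A), X ≤ T → _root_.IsPreconnected (X : Set (Pt k A)) →
          (∀ x ∈ X, n₀ * x = x * n₀) → ∀ m ∈ l, ∀ x ∈ X, m * x = x * m := by
    intro F
    induction F using Finset.induction_on with
    | empty =>
      intro _
      refine ⟨1, (Nor T).one_mem, ⊥, bot_le, by rw [← clSub_bot]; exact isClosed_clSub _, by simp [isPreconnected_singleton], fun m hm => absurd hm (Finset.notMem_empty m), fun t _ => by simp [φc],
        ∅, by simp, fun Q _ _ => bot_le, fun X _ _ _ m hm => hm.elim⟩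
    | @insert m F hm ih =>
      intro hsub
      obtain ⟨n₀, hn₀, P, hPT, hPc, hPp, hPF, hPn, l, hl, hmin, hfixl⟩ := ih ((Finset.subset_insert m F).trans hsub)
      have hmE : m ∈ E := hsub (Finset.mem_insert_self m F)
      have hmN : m ∈ Nor T := hEN hmE
      by_cases hcase : ∀ t ∈ T, φc m t ∈ P
      · refine ⟨n₀, hn₀, P, hPT, hPc, hPp, fun x hx => ?_, hPn, l, fun x hx => by simp [hl hx], hmin, hfixl⟩
        rcases Finset.mem_insert.1 hx with rfl | hx
        · exact hcase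
        · exact hPF x hx
      let V := Vn hT.tor hmN
      have hVT := Vn_le hT.tor hmN
      have hn : ∀ p ∈ V, ∀ q ∈ P, p * q * p⁻¹ ∈ P := fun p hp q hq => by
        rw [hT.tor.comm p (hVT hp) q (hPT hq), mul_inv_cancel_right]; exact hq
      obtain ⟨hc', hp'⟩ := isClosed_prodSub hn (Vn_facts hT.tor hmN).1 (Vn_facts hT.tor hmN).2 hPc hPp
      have hin1 : ∀ t ∈ T, φc m t ∈ prodSub V P hn := fun t ht => ⟨_, ⟨t, ht, rfl⟩, 1, P.one_mem, mul_one _⟩
      have hin2 : P ≤ prodSub V P hn := fun q hq => ⟨1, V.one_mem, q, hq, one_mul q⟩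
      have hdec : ∀ t : Pt k A, φc (m * n₀) t = φc m (n₀ * t * n₀⁻¹) * φc n₀ t := fun t => by simp only [φc]; group
      refine ⟨m * n₀, (Nor T).mul_mem hmN hn₀, prodSub V P hn, ?_, hc', hp', ?_, ?_, insert m l, ?_, ?_, ?_⟩
      · rintro _ ⟨p, hp, q, hq, rfl⟩
        exact T.mul_mem (hVT hp) (hPT hq)
      · intro x hx
        rcases Finset.mem_insert.1 hx with rfl | hx
        · exact hin1
        · exact fun t ht => hin2 (hPF x hx t ht)
      · intro t ht
        rw [hdec]
        exact (prodSub V P hn).mul_mem (hin1 _ (hn₀ t ht).1) (hin2 (hPn t ht))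
      · rw [Finset.coe_insert]
        exact Set.insert_subset_insert hl
      · rintro Q hQT hQ _ ⟨_, ⟨t, ht, rfl⟩, q, hq, rfl⟩
        exact Q.mul_mem (hQ m (Set.mem_insert _ _) t ht) (hmin Q hQT (fun x hx => hQ x (Set.mem_insert_of_mem _ hx)) hq)
      · intro X hXT hXp hX
        obtain ⟨p, hpm⟩ : ∃ p : Good, n p = m := by
          obtain ⟨p, -, hp⟩ := Finset.mem_image.1 hmE
          exact ⟨p, hp⟩
        -- the preimage of `P` under the commutator with `m` is finite over the singular torus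
        let K : Subgroup (Pt k A) :=
          { carrier := {s | s ∈ T ∧ φc m s ∈ P}
            one_mem' := ⟨T.one_mem, by rw [φc_one]; exact P.one_mem⟩
            mul_mem' := fun {a c} ha hc => ⟨T.mul_mem ha.1 hc.1, by
              rw [φc_mul hT.tor hmN ha.1 hc.1]; exact P.mul_mem ha.2 hc.2⟩
            inv_mem' := fun {a} ha => ⟨inv_mem ha.1, by
              have h1 := φc_mul hT.tor hmN (inv_mem ha.1) ha.1
              rw [inv_mul_cancel, φc_one] at h1
              rw [eq_inv_of_mul_eq_one_left h1.symm]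
              exact P.inv_mem ha.2⟩ }
        have hKc' : IsClosed (K : Set (Pt k A)) := hT.tor.closed.inter (hPc.preimage (isMor_φc m).continuous)
        have hsm : ∀ s ∈ sing T (hν p.1), φc m s = 1 := fun s hs => φc_eq_one_iff.2 (hpm ▸ hnS p s hs)
        have hKs : neut K ≤ sing T (hν p.1) := neut_le_sing hT.tor (hν p.1) hKc' (fun s hs => hs.1)
          (fun s hs => ⟨(kerC_le (hν p.1)) (neut_le _ hs), by rw [hsm s hs]; exact P.one_mem⟩)
          fun h => hcase fun t ht => (h ht).2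
        obtain ⟨R, hR, hcov⟩ := exists_neut_cosets hKc'
        have hfin : ((fun x => φc n₀ x) '' (X : Set (Pt k A))).Finite := by
          refine ((R.finite_toSet.image fun r => φc m r).image fun y => y⁻¹).subset ?_
          rintro _ ⟨x, hx, rfl⟩
          have hyT : n₀ * x * n₀⁻¹ ∈ T := (hn₀ x (hXT hx)).1
          have h1 : φc m (n₀ * x * n₀⁻¹) * φc n₀ x = 1 := by rw [← hdec]; exact φc_eq_one_iff.2 (hX x hx)
          have hyK : n₀ * x * n₀⁻¹ ∈ K := ⟨hyT, by
            rw [eq_inv_of_mul_eq_one_left h1]; exact P.inv_mem (hPn x (hXT hx))⟩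
          obtain ⟨r, hr, hry⟩ := hcov _ hyK
          refine ⟨_, ⟨r, hr, rfl⟩, ?_⟩
          have h2 : φc m (n₀ * x * n₀⁻¹) = φc m r := by
            have h3 := φc_mul hT.tor hmN (hR r hr).1 ((neut_le _ hry).1)
            rwa [mul_inv_cancel_left, hsm _ (hKs hry), mul_one] at h3
          show (φc m r)⁻¹ = φc n₀ x
          rw [← h2]
          exact inv_eq_of_mul_eq_one_right h1
        have hn₀X : ∀ x ∈ X, n₀ * x = x * n₀ := fun x hx => φc_eq_one_iff.1
          ((eq_of_finite_image hXp (isMor_φc n₀) hfin hx X.one_mem).trans (φc_one n₀))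
        intro y hy x hx
        rcases Set.mem_insert_iff.1 hy with rfl | hy
        · have h := hX x hx
          rw [_root_.mul_assoc, hn₀X x hx, ← _root_.mul_assoc, ← _root_.mul_assoc] at h
          exact mul_right_cancel h
        · exact hfixl X hXT hXp hn₀X y hy x hx
  obtain ⟨n₀, hn₀, P, hPT, hPc, -, hPE, -, l, hl, hmin, hfixl⟩ := hsel E (Finset.Subset.refl E)
  have hTP : T ≤ P := le_of_fix_bot hT.tor hEN hfixE hPc fun m hm => hPE m hm
  have hfill := fix_bot_of_fill hT.tor (E := l) (hl.trans hEN) fun Q hQT hQ => hTP.trans (hmin Q hQT hQ)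
  refine ⟨n₀, hn₀, le_bot_iff.1 ((le_neut (isPreconnected_neut _) fun x hx => mem_Fix.2
    ⟨(mem_Fix.1 (neut_le _ hx)).1, fun m hm => ?_⟩).trans hfill.le)⟩
  exact hfixl (neut (Fix T {n₀})) ((neut_le _).trans inf_le_left) (isPreconnected_neut _)
    (fun y hy => (mem_Fix.1 (neut_le _ hy)).2 n₀ rfl) m hm x hx

/-- **Central points are commutators of elements of finite order.** -/
theorem exists_commutator (hconn : _root_.IsPreconnected (Set.univ : Set (Pt k A))) (hred : IsRedPts k A)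
    (hss : IsSSPts k A)
    (hBC : ∀ B : Subgroup (Pt k A), IsBor ⊤ B → ∀ x, (∀ b ∈ B, x * b = b * x) → ∀ g, g * x = x * g)
    {c : Pt k A} (hc : ∀ g, g * c = c * g) :
    ∃ a b : Pt k A, IsOfFinOrder a ∧ IsOfFinOrder b ∧ c = a * b * a⁻¹ * b⁻¹ := by
  classical
  have hKc : IsClosed ((⊤ : Subgroup (Pt k A)) : Set (Pt k A)) := by rw [Subgroup.coe_top]; exact isClosed_univ
  have h1T : IsTor (⊥ : Subgroup (Pt k A)) := by
    refine ⟨by rw [← clSub_bot]; exact isClosed_clSub _, by simp [isPreconnected_singleton], fun a ha b hb => ?_, fun x hx => ?_⟩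
    · rw [Subgroup.mem_bot.1 ha, Subgroup.mem_bot.1 hb]
    · exact subset_closure ⟨hx, by rw [Subgroup.mem_bot.1 hx]; exact IsPT.one⟩
  obtain ⟨T, hT, -⟩ := h1T.exists_le_isMaxTor hconn
  have hcT : c ∈ T := by
    rw [← hred.centralizer_eq hconn hT]
    exact Subgroup.mem_centralizer_iff.2 fun t _ => hc t
  -- the centre is finite
  set Z := Subgroup.centralizer ((⊤ : Subgroup (Pt k A)) : Set (Pt k A)) with hZ
  have hZc : IsClosed (Z : Set (Pt k A)) := isClosed_centralizer ⊤
  have hZmem : ∀ x ∈ Z, ∀ g, g * x = x * g := fun x hx g => Subgroup.mem_centralizer_iff.1 hx g trivial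
  have hZ0 : neut Z = ⊥ := by
    refine le_bot_iff.1 ((le_radSub hconn (isPreconnected_neut _) (fun a => ?_) ⟨1, ?_⟩).trans
      (hss.radSub_eq_bot hconn).le)
    · rintro _ ⟨x, hx, rfl⟩
      show a * x * a⁻¹ ∈ neut Z
      rwa [hZmem x (neut_le _ hx) a, mul_inv_cancel_right]
    · refine le_bot_iff.1 (Subgroup.commutator_le.2 fun a ha b _ => ?_)
      rw [Subgroup.mem_bot, commutatorElement_eq_one_iff_mul_comm]
      exact (hZmem a (neut_le _ ha) b).symm
  obtain ⟨d, hd, hdZ⟩ := exists_pow_mem_neut hZc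
  have hcd : c ^ d = 1 := Subgroup.mem_bot.1 (hZ0 ▸ hdZ c (Subgroup.mem_centralizer_iff.2 fun g _ => hc g))
  obtain ⟨n, hn, hfix⟩ := exists_regular_weyl hconn hred hss hT hBC
  have hfin : ∀ x ∈ T, n * x = x * n → IsOfFinOrder x := fun x hx hcomm => by
    obtain ⟨M, hM, hMfix⟩ := exists_pow_mem_neut (isClosed_Fix hT.tor {n})
    exact isOfFinOrder_iff_pow_eq_one.2 ⟨M, Nat.pos_of_ne_zero hM, Subgroup.mem_bot.1
      (hfix ▸ hMfix x (mem_Fix.2 ⟨hx, fun m hm => by rw [Set.mem_singleton_iff.1 hm]; exact hcomm⟩))⟩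
  have hnT : conjSub n T = T := mem_Nor_iff.1 hn
  -- the element has finite order
  have hno : IsOfFinOrder n := by
    obtain ⟨N₁, hN₁, hN₁'⟩ : ∃ N₁ : ℕ, N₁ ≠ 0 ∧ n ^ N₁ ∈ T := by
      have hfinr := finite_range_autT (T := T) hT.tor
      haveI := hfinr.to_subtype
      let F : ℕ → Set.range (autT T) := fun i => ⟨autT T (⟨n, hn⟩ ^ i), _, rfl⟩
      obtain ⟨i, j, hij, he⟩ := Finite.exists_ne_map_eq_of_infinite F
      wlog hlt : i < j generalizing i j with H
      · exact H j i hij.symm he.symm (lt_of_le_of_ne (not_lt.1 hlt) hij.symm)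
      refine ⟨j - i, (Nat.sub_pos_of_lt hlt).ne', ?_⟩
      rw [← hred.centralizer_eq hconn hT]
      refine Subgroup.mem_centralizer_iff.2 fun t ht => ?_
      have h : autT T (⟨n, hn⟩ ^ i) = autT T (⟨n, hn⟩ ^ j) := congrArg Subtype.val he
      have h0 : ((⟨n, hn⟩ ^ i : Nor T) : Pt k A) * t * ((⟨n, hn⟩ ^ i : Nor T) : Pt k A)⁻¹ =
          ((⟨n, hn⟩ ^ j : Nor T) : Pt k A) * t * ((⟨n, hn⟩ ^ j : Nor T) : Pt k A)⁻¹ := by
        rw [← autT_apply T _ ⟨t, ht⟩, h, autT_apply]
      have h' : n ^ i * t * (n ^ i)⁻¹ = n ^ j * t * (n ^ j)⁻¹ := by simpa using h0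
      have hji : n ^ j = n ^ i * n ^ (j - i) := by rw [← pow_add, Nat.add_sub_cancel' hlt.le]
      rw [hji] at h'
      have e2 : n ^ i * (n ^ (j - i) * t * (n ^ (j - i))⁻¹) * (n ^ i)⁻¹ = n ^ i * t * (n ^ i)⁻¹ := by
        rw [h']; group
      have e3 := mul_left_cancel (mul_right_cancel e2)
      exact (mul_inv_eq_iff_eq_mul.1 e3).symm
    obtain ⟨M, hM, hpow⟩ := isOfFinOrder_iff_pow_eq_one.1 (hfin _ hN₁' ((Commute.self_pow n N₁).eq))
    exact isOfFinOrder_iff_pow_eq_one.2 ⟨N₁ * M, Nat.mul_pos (Nat.pos_of_ne_zero hN₁) hM, by rw [pow_mul]; exact hpow⟩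
  have hTV : T ≤ Vn hT.tor hn := le_of_fix_bot hT.tor (E := {n}) (by simpa using hn) hfix (Vn_facts hT.tor hn).1
    fun m hm t ht => by rw [Set.mem_singleton_iff.1 hm]; exact ⟨t, ht, rfl⟩
  obtain ⟨t, ht, htc⟩ := hTV hcT
  refine ⟨n, t, hno, ?_, htc.symm⟩
  have h1 : φc n (t ^ d) = 1 := by rw [φc_pow hT.tor hn ht, htc, hcd]
  obtain ⟨M, hM, hM'⟩ := isOfFinOrder_iff_pow_eq_one.1 (hfin _ (T.pow_mem ht d) (φc_eq_one_iff.1 h1))
  exact isOfFinOrder_iff_pow_eq_one.2 ⟨d * M, Nat.mul_pos (Nat.pos_of_ne_zero hd) hM, by rw [pow_mul]; exact hM'⟩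

end Groth.Agent.CommutatorLib
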