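import Groth.Agent.BorelLib.Perfect

/-!
# Singular tori, reflections and regular elements of the Weyl group, on points
-/

set_option autoImplicit false
set_option linter.style.haveILetI false
set_option linter.unusedSectionVars false
set_option backward.isDefEq.respectTransparency false
set_option maxHeartbeats 1000000
set_option synthInstance.maxHeartbeats 400000

universe u

open WithConv
open scoped TensorProduct

noncomputable section

namespace Groth.Agent.CommutatorLib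

open Groth.Agent.BorelLib
attribute [local instance] BorelLib.pTop BorelLib.pTopTensor

variable {k : Type u} [Field k] [IsAlgClosed k] {A : Type u} [CommRing A] [HopfAlgebra k A] [Algebra.FiniteType k A]

/-- Connected sets map constantly to finite sets. -/
theorem eq_of_finite_image {X : Set (Pt k A)} (hX : _root_.IsPreconnected X) {F : Pt k A → Pt k A} (hF : IsMor F)
    (hfin : (F '' X).Finite) {x y : Pt k A} (hx : x ∈ X) (hy : y ∈ X) : F x = F y :=
  WithConv.ext (AlgHom.ext fun a => ((IsReg.eval a).comp hF).const_of_finite hX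
    ((hfin.image fun z => z.ofConv a).subset (by rintro _ ⟨z, hz, rfl⟩; exact ⟨_, ⟨z, hz, rfl⟩, rfl⟩)) hx hy)

variable {T : Subgroup (Pt k A)}

/-- A regular character of a torus. -/
structure IsCh (T : Subgroup (Pt k A)) (ν : Pt k A → k) : Prop where
  reg : IsReg ν
  one : ν 1 = 1
  mul : ∀ a ∈ T, ∀ b ∈ T, ν (a * b) = ν a * ν b

theorem IsCh.ne_zero {ν : Pt k A → k} (h : IsCh T ν) {a : Pt k A} (ha : a ∈ T) : ν a ≠ 0 := fun h0 => by
  have := h.mul a ha a⁻¹ (inv_mem ha)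
  rw [mul_inv_cancel, h.one, h0, zero_mul] at this
  exact one_ne_zero this

/-- The kernel of a character. -/
def kerC (T : Subgroup (Pt k A)) {ν : Pt k A → k} (h : IsCh T ν) : Subgroup (Pt k A) where
  carrier := {s | s ∈ T ∧ ν s = 1}
  one_mem' := ⟨T.one_mem, h.one⟩
  mul_mem' := fun {a b} ha hb => ⟨T.mul_mem ha.1 hb.1, by rw [h.mul a ha.1 b hb.1, ha.2, hb.2, _root_.mul_one]⟩
  inv_mem' := fun {a} ha => ⟨inv_mem ha.1, by
    have := h.mul a ha.1 a⁻¹ (inv_mem ha.1)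
    rw [mul_inv_cancel, h.one, ha.2, _root_.one_mul] at this
    exact this.symm⟩

/-- The singular torus of a character. -/
def sing (T : Subgroup (Pt k A)) {ν : Pt k A → k} (h : IsCh T ν) : Subgroup (Pt k A) := neut (kerC T h)

variable {ν : Pt k A → k}

theorem kerC_le (h : IsCh T ν) : kerC T h ≤ T := fun _ hs => hs.1

theorem isClosed_kerC (hT : IsTor T) (h : IsCh T ν) : IsClosed (kerC T h : Set (Pt k A)) :=
  hT.closed.inter (h.reg.isClosed_eq (IsReg.const 1))

theorem isTor_sing (hT : IsTor T) (h : IsCh T ν) : IsTor (sing T h) :=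
  hT.of_le ((neut_le _).trans (kerC_le h)) (isClosed_neut (isClosed_kerC hT h)) (isPreconnected_neut _)

/-- A character of a connected group is trivial or surjective. -/
theorem IsCh.trivial_or_surjective (h : IsCh T ν) {K : Subgroup (Pt k A)} (hKT : K ≤ T)
    (hKc : IsClosed (K : Set (Pt k A))) (hK : _root_.IsPreconnected (K : Set (Pt k A))) :
    (∀ s ∈ K, ν s = 1) ∨ ∀ c : k, c ≠ 0 → ∃ s ∈ K, ν s = c := by
  classical
  refine or_iff_not_imp_right.2 fun hns s hs => ?_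
  push Not at hns
  obtain ⟨c, hc, hcs⟩ := hns
  obtain ⟨φ, hφ⟩ := isMor_linePt h.reg
  obtain ⟨W, hWo, hWne, hWsub, -⟩ := exists_open_saturated φ hKc (isIrreducible_of_connected hKc hK)
  have hval : ∀ x, lineCoord (pull φ x) = ν x := fun x => by rw [← hφ x, lineCoord_linePt]
  by_cases hd : ∃ x, x ∉ closure (pull φ '' (K : Set (Pt k A)))
  · obtain ⟨x, hx⟩ := hd
    have hfin := finite_lineCoord isClosed_closure hx
    exact (h.reg.const_of_finite hK (hfin.subset (by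
      rintro _ ⟨y, hy, rfl⟩
      exact ⟨_, subset_closure ⟨y, hy, rfl⟩, hval y⟩)) hs K.one_mem).trans h.one
  exfalso
  push Not at hd
  obtain ⟨w₀, hw₀, -⟩ := hWne
  have hfin := finite_lineCoord hWo.isClosed_compl (x := w₀) fun h => h hw₀
  let F : Set k := lineCoord '' (Wᶜ : Set (Pt k (Polynomial k)))
  have hgood : ∀ d : k, d ∉ F → ∃ y ∈ K, ν y = d := fun d hd' => by
    have hdW : linePt d ∈ W := by
      by_contra hn
      exact hd' ⟨linePt d, hn, lineCoord_linePt d⟩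
    obtain ⟨y, hy, e⟩ := hWsub ⟨hdW, hd _⟩
    exact ⟨y, hy, by rw [← hval y, e, lineCoord_linePt]⟩
  obtain ⟨d, -, hd'⟩ := (Set.infinite_univ (α := k)).exists_notMem_finset
    ((hfin.toFinset ∪ hfin.toFinset.image fun f => c / f) ∪ {0})
  simp only [Finset.mem_union, Set.Finite.mem_toFinset, Finset.mem_image, Finset.mem_singleton, not_or,
    not_exists, not_and] at hd'
  obtain ⟨⟨hd1, hd2⟩, hd0⟩ := hd'
  obtain ⟨y, hy, hyd⟩ := hgood d hd1
  obtain ⟨z, hz, hzd⟩ := hgood (c / d) fun hf => hd2 (c / d) hf (div_div_cancel₀ hc)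
  exact hcs (y * z) (K.mul_mem hy hz) (by rw [h.mul y (hKT hy) z (hKT hz), hyd, hzd, mul_div_cancel₀ c hd0])

/-- A proper closed subgroup containing a singular torus has it as neutral component. -/
theorem neut_le_sing (hT : IsTor T) (h : IsCh T ν) {K : Subgroup (Pt k A)} (hKc : IsClosed (K : Set (Pt k A)))
    (hKT : K ≤ T) (hsK : sing T h ≤ K) (hne : ¬ T ≤ K) : neut K ≤ sing T h := by
  classical
  refine le_neut (isPreconnected_neut _) fun s hs => ⟨hKT (neut_le _ hs), ?_⟩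
  rcases h.trivial_or_surjective ((neut_le K).trans hKT) (isClosed_neut hKc) (isPreconnected_neut K) with h1 | h1
  · exact h1 s hs
  exfalso
  obtain ⟨R, hR, hcov⟩ := exists_neut_cosets (isClosed_kerC hT h)
  refine hne (subset_of_cosets hKc hT.conn T.one_mem (R := R) fun m hm => ?_)
  obtain ⟨x, hx, hxm⟩ := h1 (ν m) (h.ne_zero hm)
  have hxT : x ∈ T := hKT (neut_le _ hx)
  have hmem : m * x⁻¹ ∈ kerC T h := ⟨T.mul_mem hm (inv_mem hxT), by
    have := h.mul (m * x⁻¹) (T.mul_mem hm (inv_mem hxT)) x hxT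
    rw [inv_mul_cancel_right, hxm] at this
    exact mul_right_cancel₀ (h.ne_zero hm) (by rw [← this, _root_.one_mul])⟩
  obtain ⟨r, hr, hrm⟩ := hcov _ hmem
  refine ⟨r, hr, ?_⟩
  have := K.mul_mem (hsK hrm) (neut_le _ hx)
  simpa [_root_.mul_assoc] using this

/-- The normaliser of a subgroup. -/
def Nor (T : Subgroup (Pt k A)) : Subgroup (Pt k A) where
  carrier := {n | ∀ t ∈ T, n * t * n⁻¹ ∈ T ∧ n⁻¹ * t * n ∈ T}
  one_mem' := fun t ht => ⟨by simpa using ht, by simpa using ht⟩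
  inv_mem' := fun {n} h t ht => ⟨by simpa using (h t ht).2, by simpa using (h t ht).1⟩
  mul_mem' := fun {a c} ha hc t ht => ⟨by simpa [_root_.mul_assoc] using (ha _ (hc t ht).1).1,
    by simpa [_root_.mul_assoc] using (hc _ (ha t ht).2).2⟩

theorem mem_Nor_iff {n : Pt k A} : n ∈ Nor T ↔ conjSub n T = T := by
  constructor
  · intro hn
    refine le_antisymm ?_ fun t ht => mem_conjSub.2 (hn t ht).2
    rintro _ ⟨t, ht, rfl⟩
    exact (hn t ht).1
  · intro hn t ht
    exact ⟨hn.le ⟨t, ht, rfl⟩, mem_conjSub.1 (hn.symm ▸ ht)⟩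

/-- The commutator with an element. -/
def φc (n t : Pt k A) : Pt k A := n * t * n⁻¹ * t⁻¹

theorem φc_mem {n t : Pt k A} (hn : n ∈ Nor T) (ht : t ∈ T) : φc n t ∈ T :=
  T.mul_mem (hn t ht).1 (inv_mem ht)

theorem φc_mul (hT : IsTor T) {n a b : Pt k A} (hn : n ∈ Nor T) (ha : a ∈ T) (hb : b ∈ T) :
    φc n (a * b) = φc n a * φc n b := by
  have h1 := hT.comm a⁻¹ (inv_mem ha) _ (φc_mem hn hb)
  calc φc n (a * b) = (n * a * n⁻¹) * (φc n b * a⁻¹) := by simp only [φc]; group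
    _ = (n * a * n⁻¹) * (a⁻¹ * φc n b) := by rw [h1]
    _ = φc n a * φc n b := by simp only [φc]; group

theorem φc_eq_one_iff {n t : Pt k A} : φc n t = 1 ↔ n * t = t * n := by
  rw [φc, mul_inv_eq_one, mul_inv_eq_iff_eq_mul]

theorem φc_one (n : Pt k A) : φc n (1 : Pt k A) = 1 := by simp [φc]

theorem isMor_φc (n : Pt k A) : IsMor (φc n : Pt k A → Pt k A) :=
  (((IsMor.const n).mul IsMor.id).mul (IsMor.const n⁻¹)).mul IsMor.id.inv

theorem φc_pow (hT : IsTor T) {n t : Pt k A} (hn : n ∈ Nor T) (ht : t ∈ T) (m : ℕ) :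
    φc n (t ^ m) = φc n t ^ m := by
  induction m with
  | zero => simp [φc]
  | succ m ih => rw [pow_succ, pow_succ, φc_mul hT hn (T.pow_mem ht m) ht, ih]

/-- The image of the torus under a commutator map. -/
def Vn (hT : IsTor T) {n : Pt k A} (hn : n ∈ Nor T) : Subgroup (Pt k A) where
  carrier := φc n '' (T : Set (Pt k A))
  one_mem' := ⟨1, T.one_mem, φc_one n⟩
  mul_mem' := by
    rintro _ _ ⟨a, ha, rfl⟩ ⟨b, hb, rfl⟩
    exact ⟨a * b, T.mul_mem ha hb, φc_mul hT hn ha hb⟩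
  inv_mem' := by
    rintro _ ⟨a, ha, rfl⟩
    refine ⟨a⁻¹, inv_mem ha, eq_inv_of_mul_eq_one_left ?_⟩
    rw [← φc_mul hT hn (inv_mem ha) ha, inv_mul_cancel, φc_one]

theorem Vn_facts (hT : IsTor T) {n : Pt k A} (hn : n ∈ Nor T) :
    IsClosed (Vn hT hn : Set (Pt k A)) ∧ _root_.IsPreconnected (Vn hT hn : Set (Pt k A)) :=
  isClosed_of_image hT.closed (isIrreducible_of_connected hT.closed hT.conn) (isMor_φc n) rfl

theorem Vn_le (hT : IsTor T) {n : Pt k A} (hn : n ∈ Nor T) : Vn hT hn ≤ T := by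
  rintro _ ⟨a, ha, rfl⟩
  exact φc_mem hn ha

/-- The points of the torus fixed by a set. -/
def Fix (T : Subgroup (Pt k A)) (E : Set (Pt k A)) : Subgroup (Pt k A) := T ⊓ Subgroup.centralizer E

theorem mem_Fix {E : Set (Pt k A)} {t : Pt k A} : t ∈ Fix T E ↔ t ∈ T ∧ ∀ n ∈ E, n * t = t * n :=
  and_congr_right fun _ => Subgroup.mem_centralizer_iff

theorem isClosed_Fix (hT : IsTor T) (E : Set (Pt k A)) : IsClosed (Fix T E : Set (Pt k A)) := by
  have e : (Fix T E : Set (Pt k A)) = (T : Set (Pt k A)) ∩ ⋂ y ∈ E, {g | y * g = g * y} := by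
    ext g
    simp [Fix, Subgroup.mem_centralizer_iff]
  rw [e]
  exact hT.closed.inter (isClosed_biInter fun y _ => isClosed_commuting y)

/-- The automorphism of the torus given by a normalising element. -/
def autHom (T : Subgroup (Pt k A)) (n : Nor T) : MulAut ↥T where
  toFun s := ⟨(n : Pt k A) * s * (n : Pt k A)⁻¹, (n.2 s s.2).1⟩
  invFun s := ⟨(n : Pt k A)⁻¹ * s * (n : Pt k A), (n.2 s s.2).2⟩
  left_inv s := Subtype.ext (by
    show (n : Pt k A)⁻¹ * ((n : Pt k A) * s * (n : Pt k A)⁻¹) * (n : Pt k A) = (s : Pt k A)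
    group)
  right_inv s := Subtype.ext (by
    show (n : Pt k A) * ((n : Pt k A)⁻¹ * s * (n : Pt k A)) * (n : Pt k A)⁻¹ = (s : Pt k A)
    group)
  map_mul' a c := Subtype.ext (by
    show (n : Pt k A) * ((a : Pt k A) * c) * (n : Pt k A)⁻¹ =
      ((n : Pt k A) * a * (n : Pt k A)⁻¹) * ((n : Pt k A) * c * (n : Pt k A)⁻¹)
    group)

theorem autHom_apply (T : Subgroup (Pt k A)) (n : Nor T) (s : ↥T) :
    (autHom T n s : Pt k A) = (n : Pt k A) * s * (n : Pt k A)⁻¹ := rfl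

/-- The action of the normaliser on the torus. -/
def autT (T : Subgroup (Pt k A)) : Nor T →* MulAut ↥T :=
  MonoidHom.mk' (autHom T) fun a b => MulEquiv.ext fun s => Subtype.ext (by
    rw [MulAut.mul_apply, autHom_apply, autHom_apply, autHom_apply, Subgroup.coe_mul]
    group)

theorem autT_apply (T : Subgroup (Pt k A)) (n : Nor T) (s : ↥T) :
    (autT T n s : Pt k A) = (n : Pt k A) * s * (n : Pt k A)⁻¹ := rfl

theorem finite_range_autT (hT : IsTor T) : (Set.range (autT T)).Finite := by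
  have hNc : IsClosed (Nor T : Set (Pt k A)) := by
    have e : (Nor T : Set (Pt k A)) = ⋂ t ∈ T, (fun n => n * t * n⁻¹) ⁻¹' (T : Set (Pt k A)) ∩
        (fun n => n⁻¹ * t * n) ⁻¹' (T : Set (Pt k A)) := by
      ext n
      simp only [Set.mem_iInter, Set.mem_inter_iff, Set.mem_preimage, SetLike.mem_coe]
      exact Iff.rfl
    rw [e]
    exact isClosed_biInter fun t _ => (hT.closed.preimage
      ((IsMor.id.mul (IsMor.const t)).mul IsMor.id.inv).continuous).inter
      (hT.closed.preimage ((IsMor.id.inv.mul (IsMor.const t)).mul IsMor.id).continuous)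
  obtain ⟨R, hR, hcov⟩ := exists_neut_cosets hNc
  have hneut := hT.commute_of_normalizing (isPreconnected_neut (Nor T)) fun n hn' t ht => ((neut_le _ hn') t ht).1
  refine (Set.finite_range fun r : {r // r ∈ R} => autT T ⟨r.1, hR r.1 r.2⟩).subset ?_
  rintro _ ⟨⟨n, hn⟩, rfl⟩
  obtain ⟨r, hr, hrn⟩ := hcov n hn
  refine ⟨⟨r, hr⟩, MulEquiv.ext fun t => Subtype.ext ?_⟩
  show r * (t : Pt k A) * r⁻¹ = n * (t : Pt k A) * n⁻¹
  have hc := hneut _ hrn t t.2
  calc r * (t : Pt k A) * r⁻¹ = r * ((t : Pt k A) * (r⁻¹ * n)) * n⁻¹ := by group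
    _ = r * ((r⁻¹ * n) * (t : Pt k A)) * n⁻¹ := by rw [hc]
    _ = n * (t : Pt k A) * n⁻¹ := by group

/-- **The norm of a family of normalising elements.** -/
theorem exists_norm (hT : IsTor T) {E : Set (Pt k A)} (hE : E ⊆ (Nor T : Set (Pt k A))) :
    ∃ (N : ℕ) (nm : Pt k A → Pt k A), N ≠ 0 ∧
      (∀ t ∈ T, nm t ∈ Fix T E) ∧ (∀ a ∈ T, ∀ b ∈ T, nm (a * b) = nm a * nm b) ∧
      (∀ n ∈ E, ∀ t ∈ T, nm (φc n t) = 1) ∧ (∀ t ∈ Fix T E, nm t = t ^ N) ∧
      ∀ P : Subgroup (Pt k A), (∀ n ∈ E, ∀ t ∈ T, φc n t ∈ P) → ∀ t ∈ T, (t ^ N)⁻¹ * nm t ∈ P := by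
  classical
  letI : CommGroup ↥T := { (inferInstance : Group ↥T) with mul_comm := fun a c => Subtype.ext (hT.comm a a.2 c c.2) }
  let N₀ : Subgroup (Pt k A) := Subgroup.closure E
  have hN₀ : N₀ ≤ Nor T := (Subgroup.closure_le _).2 hE
  let W : Subgroup (MulAut ↥T) := (N₀.subgroupOf (Nor T)).map (autT T)
  have hW : (W : Set (MulAut ↥T)).Finite := (finite_range_autT hT).subset (by
    rintro _ ⟨m, -, rfl⟩
    exact ⟨m, rfl⟩)
  haveI : Finite W := hW.to_subtype
  haveI : Fintype W := Fintype.ofFinite _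
  let ν' : ↥T → ↥T := fun t => ∏ w : W, (w : MulAut ↥T) t
  let nm : Pt k A → Pt k A := fun t => if h : t ∈ T then (ν' ⟨t, h⟩ : Pt k A) else 1
  have hnm : ∀ t (h : t ∈ T), nm t = (ν' ⟨t, h⟩ : Pt k A) := fun t h => dif_pos h
  have hmemW : ∀ (n : Pt k A) (hne : n ∈ E), autT T ⟨n, hE hne⟩ ∈ W := fun n hne =>
    ⟨⟨n, hE hne⟩, Subgroup.subset_closure hne, rfl⟩
  have hleft : ∀ (n : Pt k A) (hne : n ∈ E) (t : ↥T), autT T ⟨n, hE hne⟩ (ν' t) = ν' t := fun n hne t => by
    rw [map_prod]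
    exact Fintype.prod_equiv (Equiv.mulLeft (⟨_, hmemW n hne⟩ : W)) _ _ fun w => rfl
  have hright : ∀ (n : Pt k A) (hne : n ∈ E) (t : ↥T), ν' (autT T ⟨n, hE hne⟩ t) = ν' t := fun n hne t =>
    Fintype.prod_equiv (Equiv.mulRight (⟨_, hmemW n hne⟩ : W)) _ _ fun w => rfl
  have hmul : ∀ a b : ↥T, ν' (a * b) = ν' a * ν' b := fun a b => by simp [ν', Finset.prod_mul_distrib]
  refine ⟨Fintype.card W, nm, Fintype.card_ne_zero, fun t ht => mem_Fix.2 ⟨?_, fun n hne => ?_⟩,
    fun a ha b hb => ?_, fun n hne t ht => ?_, fun t ht => ?_, fun P hP t ht => ?_⟩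
  · rw [hnm t ht]; exact (ν' _).2
  · rw [hnm t ht]
    exact mul_inv_eq_iff_eq_mul.1 (congrArg Subtype.val (hleft n hne ⟨t, ht⟩))
  · rw [hnm a ha, hnm b hb, hnm _ (T.mul_mem ha hb), ← Subgroup.coe_mul, ← hmul]
    rfl
  · have e1 := hright n hne ⟨t, ht⟩
    have e2 : (⟨φc n t, φc_mem (hE hne) ht⟩ : ↥T) * ⟨t, ht⟩ = autT T ⟨n, hE hne⟩ ⟨t, ht⟩ :=
      Subtype.ext (by simp [φc, autT_apply])
    rw [← e2, hmul, mul_eq_right] at e1
    rw [hnm _ (φc_mem (hE hne) ht), e1]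
    rfl
  · obtain ⟨htT, htE⟩ := mem_Fix.1 ht
    have hN₀t : N₀ ≤ Subgroup.centralizer {t} := (Subgroup.closure_le _).2 fun n hne =>
      Subgroup.mem_centralizer_singleton_iff.2 (htE n hne)
    have : ∀ w : W, (w : ↥T →* ↥T) ⟨t, htT⟩ = ⟨t, htT⟩ := by
      rintro ⟨_, m, hm, rfl⟩
      exact Subtype.ext (mul_inv_eq_iff_eq_mul.2 (Subgroup.mem_centralizer_singleton_iff.1 (hN₀t hm)))
    rw [hnm t htT]
    refine (congrArg Subtype.val ((Fintype.prod_congr _ _ this).trans (Finset.prod_const _))).trans ?_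
    simp [Finset.card_univ]
  · let G₀ : Subgroup (Pt k A) :=
      { carrier := {n | n ∈ Nor T ∧ ∀ s ∈ T, φc n s ∈ P}
        one_mem' := ⟨(Nor T).one_mem, fun s _ => by simp [φc]⟩
        mul_mem' := fun {a b} ha hb => ⟨(Nor T).mul_mem ha.1 hb.1, fun s hs => by
          have := P.mul_mem (ha.2 _ (hb.1 s hs).1) (hb.2 s hs)
          simpa [φc, _root_.mul_assoc] using this⟩
        inv_mem' := fun {a} ha => ⟨inv_mem ha.1, fun s hs => by
          have := P.inv_mem (ha.2 _ (ha.1 s hs).2)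
          simpa [φc, _root_.mul_assoc] using this⟩ }
    have hG₀ : N₀ ≤ G₀ := (Subgroup.closure_le _).2 fun n hne => ⟨hE hne, hP n hne⟩
    let P' : Subgroup ↥T := P.comap T.subtype
    have hw : ∀ w : W, (⟨t, ht⟩ : ↥T)⁻¹ * (w : ↥T →* ↥T) ⟨t, ht⟩ ∈ P' := by
      rintro ⟨_, m, hm, rfl⟩
      rw [mul_comm]
      exact (hG₀ hm).2 t ht
    have hprod := P'.prod_mem (t := (Finset.univ : Finset W)) fun w _ => hw w
    rw [Finset.prod_mul_distrib, Finset.prod_const, Finset.card_univ, inv_pow] at hprod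
    rw [hnm t ht]
    exact hprod

/-- If nothing connected is fixed, the commutators fill the torus. -/
theorem le_of_fix_bot (hT : IsTor T) {E : Set (Pt k A)} (hE : E ⊆ (Nor T : Set (Pt k A))) (hfix : neut (Fix T E) = ⊥)
    {P : Subgroup (Pt k A)} (hPc : IsClosed (P : Set (Pt k A))) (hP : ∀ n ∈ E, ∀ t ∈ T, φc n t ∈ P) : T ≤ P := by
  obtain ⟨M, hM, hMfix⟩ := exists_pow_mem_neut (isClosed_Fix hT E)
  obtain ⟨N, nm, hN, hnf, hmul, -, -, hmod⟩ := exists_norm hT hE
  intro s hs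
  refine (closure_minimal (t := (P : Set (Pt k A))) ?_ hPc) (hT.dense hs)
  rintro y ⟨hy, hpt⟩
  obtain ⟨z, hz, rfl⟩ := hT.exists_root hy hpt (Nat.mul_ne_zero hM hN)
  have h1 : nm z ^ M = 1 := Subgroup.mem_bot.1 (hfix ▸ hMfix _ (hnf z hz))
  have hone : nm 1 = 1 := by
    have := hmul 1 T.one_mem 1 T.one_mem
    rw [one_mul] at this
    exact left_eq_mul.1 this
  have hpow : ∀ m : ℕ, nm (z ^ m) = nm z ^ m := fun m => by
    induction m with
    | zero => simp [hone]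
    | succ m ih => rw [pow_succ, pow_succ, hmul _ (T.pow_mem hz m) _ hz, ih]
  have h2 := hmod P hP (z ^ M) (T.pow_mem hz M)
  rw [hpow, h1, _root_.mul_one, ← pow_mul] at h2
  simpa using P.inv_mem h2

/-- A torus fixed by a family whose commutators fill the torus is trivial. -/
theorem fix_bot_of_fill (hT : IsTor T) {E : Set (Pt k A)} (hE : E ⊆ (Nor T : Set (Pt k A)))
    (hfill : ∀ Q : Subgroup (Pt k A), Q ≤ T → (∀ n ∈ E, ∀ t ∈ T, φc n t ∈ Q) → T ≤ Q) : neut (Fix T E) = ⊥ := by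
  obtain ⟨N, nm, hN, hnf, hmul, hkill, hfx, -⟩ := exists_norm hT hE
  have hone : nm 1 = 1 := by
    have := hmul 1 T.one_mem 1 T.one_mem
    rw [one_mul] at this
    exact left_eq_mul.1 this
  let Q : Subgroup (Pt k A) :=
    { carrier := {s | s ∈ T ∧ nm s = 1}
      one_mem' := ⟨T.one_mem, hone⟩
      mul_mem' := fun {a b} ha hb => ⟨T.mul_mem ha.1 hb.1, by rw [hmul a ha.1 b hb.1, ha.2, hb.2, one_mul]⟩
      inv_mem' := fun {a} ha => ⟨inv_mem ha.1, by
        have := hmul a ha.1 a⁻¹ (inv_mem ha.1)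
        rw [mul_inv_cancel, hone, ha.2, one_mul] at this
        exact this.symm⟩ }
  have hTQ := hfill Q (fun s hs => hs.1) fun n hn t ht => ⟨φc_mem (hE hn) ht, hkill n hn t ht⟩
  have hX : IsTor (neut (Fix T E)) :=
    hT.of_le ((neut_le _).trans inf_le_left) (isClosed_neut (isClosed_Fix hT E)) (isPreconnected_neut _)
  refine le_bot_iff.1 fun x hx => ?_
  have hcl : IsClosed ((⊥ : Subgroup (Pt k A)) : Set (Pt k A)) := by rw [← clSub_bot]; exact isClosed_clSub _
  refine (closure_minimal ?_ hcl) (hX.dense hx)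
  rintro y ⟨hy, hpt⟩
  obtain ⟨z, hz, rfl⟩ := hX.exists_root hy hpt hN
  have hz' := neut_le _ hz
  show z ^ N = 1
  rw [← hfx z hz']
  exact (hTQ hz'.1).2

end Groth.Agent.CommutatorLib
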