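import Groth.Agent.CommutatorLib.Singular

/-!
# A regular element of the Weyl group of a semisimple group in characteristic zero
-/

set_option autoImplicit false
set_option linter.style.haveILetI false
set_option linter.unusedSectionVars false
set_option backward.isDefEq.respectTransparency false
set_option maxHeartbeats 1000000
set_option synthInstance.maxHeartbeats 400000

universe u

open WithConv
open scoped TensorProduct commutatorElement

noncomputable section

namespace Groth.Agent.CommutatorLib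

open Groth.Agent.BorelLib
attribute [local instance] BorelLib.pTop BorelLib.pTopTensor

variable {k : Type u} [Field k] [IsAlgClosed k] {A : Type u} [CommRing A] [HopfAlgebra k A] [Algebra.FiniteType k A]
  {T : Subgroup (Pt k A)}

/-- **Reflections**: a singular torus with a larger centraliser is fixed by a non-trivial Weyl element. -/
theorem exists_refl (hconn : _root_.IsPreconnected (Set.univ : Set (Pt k A))) (hred : IsRedPts k A)
    (hT : IsMaxTor ⊤ T) {S : Subgroup (Pt k A)} (hS : IsTor S) (hST : S ≤ T)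
    (hne : ¬ Subgroup.centralizer (S : Set (Pt k A)) ≤ T) :
    ∃ n ∈ Nor T, (∀ s ∈ S, n * s = s * n) ∧ ∃ t ∈ T, n * t ≠ t * n := by
  classical
  by_contra hno
  push Not at hno
  set C := Subgroup.centralizer (S : Set (Pt k A)) with hCdef
  have hKc : IsClosed ((⊤ : Subgroup (Pt k A)) : Set (Pt k A)) := by rw [Subgroup.coe_top]; exact isClosed_univ
  have hK : _root_.IsPreconnected ((⊤ : Subgroup (Pt k A)) : Set (Pt k A)) := by rwa [Subgroup.coe_top]
  have hCc : IsClosed (C : Set (Pt k A)) := isClosed_centralizer S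
  have hCp : _root_.IsPreconnected (C : Set (Pt k A)) := by
    simpa using isPreconnected_centralizer_tor hKc hK hS le_top
  obtain ⟨B, _, _, f, hft, hred', hfm, hind, hinj, hrange, -⟩ := exists_frame hCc
  haveI := hft; haveI := hred'
  have hfC : ∀ x, f x ∈ C := fun x => hrange ▸ ⟨x, rfl⟩
  have hTC : T ≤ C := fun t ht => Subgroup.mem_centralizer_iff.2 fun s hs => hT.tor.comm s (hST hs) t ht
  have hconnB := isPreconnected_univ_frame hind (hrange.symm ▸ hCp)
  have hT' : IsMaxTor ⊤ (T.comap f) := by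
    refine ⟨le_top, hT.tor.comap hind hinj (hrange.symm ▸ hTC), fun T' _ hT'' hle => ?_⟩
    have h1 := hT.maximal (T'.map f) le_top (hT''.map_frame hind (hrange.symm ▸ hCc)) fun t ht => by
      obtain ⟨x, rfl⟩ := (hrange.symm ▸ hTC ht : t ∈ f.range)
      exact ⟨x, hle ht, rfl⟩
    rw [← h1, Subgroup.comap_map_eq_self_of_injective hinj]
  have hrad : T.comap f ≤ radSub k B := by
    refine le_radSub_of_commute_normalizer hconnB hT' le_rfl hT'.tor.conn fun n hn s hs => hinj ?_
    rw [map_mul, map_mul]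
    refine hno (f n) (fun t ht => ?_) (fun s hs => ?_) (f s) hs
    · obtain ⟨x, rfl⟩ := (hrange.symm ▸ hTC ht : t ∈ f.range)
      rw [← map_inv, ← map_mul, ← map_mul, ← map_mul, ← map_mul]
      exact ⟨hn.le ⟨x, ht, rfl⟩, mem_conjSub.1 (hn.symm ▸ ht : x ∈ conjSub n (T.comap f))⟩
    · exact (Subgroup.mem_centralizer_iff.1 (hfC n) s hs).symm
  obtain ⟨hRc', hRp', hRs', hRn', -⟩ := radSub_facts (k := k) (A := B) hconnB
  set R := (radSub k B).map f with hRdef
  have hRc : IsClosed (R : Set (Pt k A)) := by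
    obtain ⟨F, hF, hFe⟩ := hind.isClosed_iff.1 hRc'
    rw [hRdef, Subgroup.coe_map, ← hFe, Set.image_preimage_eq_inter_range]
    exact hF.inter (by rw [← MonoidHom.coe_range, hrange]; exact hCc)
  have hRp : _root_.IsPreconnected (R : Set (Pt k A)) := hRp'.image _ hind.continuous.continuousOn
  have hRs : IsSol R := by
    obtain ⟨m, hm⟩ := hRs'
    have hmap : ∀ j, der R j = (der (radSub k B) j).map f := fun j => by
      induction j with
      | zero => rfl
      | succ j ih => rw [der, der, ih, Subgroup.map_commutator]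
    exact ⟨m, by rw [hmap, hm, Subgroup.map_bot]⟩
  have hRC : R ≤ C := by
    rintro _ ⟨x, -, rfl⟩
    exact hfC x
  have hTR : T ≤ R := fun t ht => by
    obtain ⟨x, rfl⟩ := (hrange.symm ▸ hTC ht : t ∈ f.range)
    exact ⟨x, hrad ht, rfl⟩
  have hRn : ∀ g ∈ C, conjSub g R ≤ R := by
    intro g hg
    obtain ⟨y, rfl⟩ := (hrange.symm ▸ hg : g ∈ f.range)
    rintro _ ⟨_, ⟨x, hx, rfl⟩, rfl⟩
    exact ⟨y * x * y⁻¹, hRn' y ⟨x, hx, rfl⟩, by simp⟩
  obtain ⟨D, hD⟩ := exists_flag_uni hRc hRp hRs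
  have hUc := D.isClosed_U hRc 1
  have hJ : neut (D.U 1) = ⊥ := (hred.centralizer_isRedSub hconn hS) _ (((neut_le _).trans (D.U_le 1)).trans hRC)
    (isClosed_neut hUc) (isPreconnected_neut _) (fun g hg => le_neut (isPreconnected_conjSub (isPreconnected_neut _))
      ((conjSub_mono (neut_le _)).trans (by
        rintro _ ⟨u, hu, rfl⟩
        exact (hD _).2 ⟨hRn g hg ⟨u, ((hD u).1 hu).1, rfl⟩, ((hD u).1 hu).2.conj g⟩)))
    fun u hu => ((hD u).1 (neut_le _ hu)).2
  obtain ⟨S₁, hS₁R, hS₁, hu₁, hdec, -⟩ := D.exists_torus_decomp hRc hRp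
  obtain ⟨R₀, hR₀, hcov⟩ := exists_neut_cosets hUc
  have hRS : (R : Set (Pt k A)) ⊆ S₁ := subset_of_cosets hS₁.closed hRp R.one_mem (R := R₀.image fun r => r⁻¹) fun m hm => by
    obtain ⟨s, hs, hsU⟩ := hdec m⁻¹ (inv_mem hm)
    obtain ⟨r, hr, hrU⟩ := hcov _ hsU
    rw [hJ, Subgroup.mem_bot, inv_mul_eq_one] at hrU
    refine ⟨r⁻¹, Finset.mem_image.2 ⟨r, hr, rfl⟩, ?_⟩
    have e : r⁻¹⁻¹ * m = s⁻¹ := by rw [hrU]; group
    rw [e]
    exact inv_mem hs
  have hS₁T : S₁ = T := hT.maximal S₁ le_top hS₁ (hTR.trans hRS)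
  have hcent := hT.tor.commute_of_normalizing hCp fun g hg t ht => hS₁T ▸ hRS (hRn g hg ⟨t, hTR ht, rfl⟩)
  refine hne fun g hg => ?_
  rw [← hred.centralizer_eq hconn hT]
  exact Subgroup.mem_centralizer_iff.2 fun t ht => (hcent g hg t ht).symm

/-- Scalar multiples in the image of an additive map on a closed group. -/
theorem exists_smul_of_charZero [CharZero k] {P : Subgroup (Pt k A)} (hP : IsClosed (P : Set (Pt k A)))
    {V : Type u} [AddCommGroup V] [Module k V] [FiniteDimensional k V] (q : Pt k A → V)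
    (hq : ∀ φ : V →ₗ[k] k, IsReg fun g => φ (q g)) (hadd : ∀ a ∈ P, ∀ b ∈ P, q (a * b) = q a + q b)
    {a : Pt k A} (ha : a ∈ P) (t₀ : k) : ∃ w ∈ P, q w = t₀ • q a := by
  classical
  obtain ⟨φ, hφ⟩ := isMor_vp hq
  have hP0c := isClosed_neut hP
  obtain ⟨W, hWo, hWne, hWsub, -⟩ := exists_open_saturated φ hP0c
    (isIrreducible_of_connected hP0c (isPreconnected_neut P))
  set Q := pull φ '' (neut P : Set (Pt k A)) with hQ
  have hQirr : IsIrreducible (closure Q) :=
    ((isIrreducible_of_connected hP0c (isPreconnected_neut P)).image _ (continuous_pull φ).continuousOn).closure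
  have h1 : q 1 = 0 := by
    have := hadd 1 P.one_mem 1 P.one_mem
    rw [one_mul] at this
    simpa using this
  have hφ' : ∀ g, pull φ g = vp (k := k) (q g) := fun g => (hφ g).symm
  have hQadd : ∀ y ∈ Q, ∀ y' ∈ Q, vp (k := k) (pv (V := V) y + pv y') ∈ Q := by
    rintro _ ⟨g, hg, rfl⟩ _ ⟨g', hg', rfl⟩
    exact ⟨g * g', (neut P).mul_mem hg hg', by
      rw [hφ', hφ', hφ', pv_vp, pv_vp, hadd _ (neut_le P hg) _ (neut_le P hg')]⟩
  have hQneg : ∀ y ∈ Q, vp (k := k) (-pv (V := V) y) ∈ Q := by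
    rintro _ ⟨g, hg, rfl⟩
    refine ⟨g⁻¹, inv_mem hg, ?_⟩
    have := hadd _ (neut_le P hg) _ (inv_mem (neut_le P hg))
    rw [mul_inv_cancel, h1] at this
    rw [hφ', hφ', pv_vp, eq_neg_of_add_eq_zero_right this.symm]
  have htr : ∀ x : V, Continuous fun y : Pt k (VPoly k V) => vp (k := k) (x - pv y) := fun x =>
    (isMor_vp fun ψ => by
      simp only [map_sub]
      exact (IsReg.const _).sub (isReg_pv ψ)).continuous
  have hcsub : ∀ y ∈ closure Q, ∀ z ∈ closure Q, vp (k := k) (pv (V := V) y - pv z) ∈ closure Q := by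
    have h0 : ∀ y ∈ Q, ∀ z ∈ closure Q, vp (k := k) (pv (V := V) y - pv z) ∈ closure Q := fun y hy z hz =>
      map_mem_closure (f := fun w => vp (k := k) (pv (V := V) y - pv w)) (htr _) hz fun w hw => by
        have := hQadd y hy _ (hQneg w hw)
        rwa [pv_vp, ← sub_eq_add_neg] at this
    intro y hy z hz
    have hc : Continuous fun y' : Pt k (VPoly k V) => vp (k := k) (pv (V := V) y' - pv z) :=
      (isMor_vp fun ψ => by
        simp only [map_sub]
        exact (isReg_pv ψ).sub (IsReg.const _)).continuous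
    have := map_mem_closure (f := fun y' => vp (k := k) (pv (V := V) y' - pv z)) (t := closure Q) hc hy
      fun w hw => h0 w hw z hz
    rwa [closure_closure] at this
  have hclosed : closure Q ⊆ Q := by
    intro y hy
    obtain ⟨w₀, hw₀W, hw₀⟩ := hWne
    obtain ⟨z, hz, hzW, hz'⟩ := hQirr.2 W ((fun z => vp (k := k) (pv (V := V) y - pv z)) ⁻¹' W) hWo
      (hWo.preimage (htr _)) ⟨w₀, hw₀, hw₀W⟩
      ⟨vp (pv (V := V) y - pv w₀), hcsub y hy w₀ hw₀, by simpa using hw₀W⟩
    have h2 := hQadd z (hWsub ⟨hzW, hz⟩) _ (hWsub ⟨hz', hcsub y hy z hz⟩)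
    rwa [pv_vp, add_sub_cancel, vp_pv] at h2
  have hQc : IsClosed Q := closure_subset_iff_isClosed.1 hclosed
  have hline : ∀ y ∈ Q, ∀ t : k, vp (k := k) (t • pv (V := V) y) ∈ Q := by
    intro y hy t
    let L : Set (Pt k (Polynomial k)) := (fun s => vp (k := k) (lineCoord s • pv (V := V) y)) ⁻¹' Q
    have hL : IsClosed L := hQc.preimage (isMor_vp fun ψ => by
      simp only [map_smul, smul_eq_mul]
      exact isReg_lineCoord.mul (IsReg.const _)).continuous
    have hnat : ∀ n : ℕ, linePt (n : k) ∈ L := by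
      intro n
      induction n with
      | zero =>
        show vp _ ∈ Q
        rw [lineCoord_linePt, Nat.cast_zero, zero_smul]
        have := hQadd y hy _ (hQneg y hy)
        rwa [pv_vp, add_neg_cancel] at this
      | succ n ih =>
        show vp _ ∈ Q
        rw [lineCoord_linePt, Nat.cast_succ, add_smul, one_smul]
        have ih' : vp (k := k) ((n : k) • pv (V := V) y) ∈ Q := by simpa [L] using ih
        have := hQadd _ ih' y hy
        rwa [pv_vp] at this
    by_contra hne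
    have hfin := finite_lineCoord hL (x := linePt t) fun hmem => hne (by simpa [L] using hmem)
    exact (Set.infinite_range_of_injective (f := fun n : ℕ => (n : k)) Nat.cast_injective).mono
      (by rintro _ ⟨n, rfl⟩; exact ⟨_, hnat n, lineCoord_linePt _⟩) hfin
  obtain ⟨N, hN, hNmem⟩ := exists_pow_mem_neut hP
  have hpow : ∀ n : ℕ, q (a ^ n) = (n : k) • q a := by
    intro n
    induction n with
    | zero => simp [h1]
    | succ n ih => rw [pow_succ, hadd _ (P.pow_mem ha n) _ ha, ih, Nat.cast_succ, add_smul, one_smul]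
  obtain ⟨w, hw, hwe⟩ := hline _ ⟨a ^ N, hNmem a ha, hφ' _⟩ ((N : k)⁻¹ * t₀)
  refine ⟨w, neut_le P hw, ?_⟩
  have h' := congrArg (pv (V := V)) hwe
  rw [hφ', pv_vp, pv_vp, pv_vp, hpow, smul_smul] at h'
  rw [h', mul_comm _ (N : k), ← _root_.mul_assoc, mul_inv_cancel₀ (Nat.cast_ne_zero.2 hN), one_mul]

/-- Simultaneous eigencomponents of a vector in a stable subspace lie in it. -/
theorem component_mem {ι V : Type*} [DecidableEq ι] [AddCommGroup V] [Module k V] {Γ : Type*} (L : Γ → V →ₗ[k] V)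
    (χ : ι → Γ → k) (Pre : Submodule k V) (hPre : ∀ g, ∀ v ∈ Pre, L g v ∈ Pre) (c : Finset ι) (χ₀ : Γ → k)
    (hc : ∀ j ∈ c, χ j = χ₀) :
    ∀ (s : Finset ι), (∀ j ∈ s, χ j ≠ χ₀) → ∀ e : ι → V, (∀ j g, L g (e j) = χ j g • e j) →
      ∑ j ∈ c, e j + ∑ j ∈ s, e j ∈ Pre → ∑ j ∈ c, e j ∈ Pre := by
  intro s
  induction s using Finset.induction_on with
  | empty => intro _ e _ h; simpa using h
  | @insert j₀ s hj₀ ih =>
    intro hs e he hmem
    obtain ⟨g, hg⟩ := Function.ne_iff.1 (hs j₀ (Finset.mem_insert_self _ _))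
    have hd : χ₀ g - χ j₀ g ≠ 0 := sub_ne_zero.2 (Ne.symm hg)
    set a : ι → k := fun j => (χ₀ g - χ j₀ g)⁻¹ * (χ j g - χ j₀ g) with ha
    have h1 : (χ₀ g - χ j₀ g)⁻¹ • (L g (∑ j ∈ c, e j + ∑ j ∈ insert j₀ s, e j) -
        χ j₀ g • (∑ j ∈ c, e j + ∑ j ∈ insert j₀ s, e j)) ∈ Pre :=
      Pre.smul_mem _ (Pre.sub_mem (hPre g _ hmem) (Pre.smul_mem _ hmem))
    have h2 : (χ₀ g - χ j₀ g)⁻¹ • (L g (∑ j ∈ c, e j + ∑ j ∈ insert j₀ s, e j) -
        χ j₀ g • (∑ j ∈ c, e j + ∑ j ∈ insert j₀ s, e j)) = ∑ j ∈ c, a j • e j + ∑ j ∈ s, a j • e j := by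
      have hsum : ∀ u : Finset ι, (χ₀ g - χ j₀ g)⁻¹ • (L g (∑ j ∈ u, e j) - χ j₀ g • ∑ j ∈ u, e j) =
          ∑ j ∈ u, a j • e j := fun u => by
        rw [map_sum, Finset.smul_sum, ← Finset.sum_sub_distrib, Finset.smul_sum]
        refine Finset.sum_congr rfl fun j _ => ?_
        rw [he j g, ← sub_smul, smul_smul]
      rw [map_add, smul_add, add_sub_add_comm, smul_add, hsum, hsum, Finset.sum_insert hj₀]
      simp [ha]
    rw [h2] at h1
    have h3 := ih (fun j hj => hs j (Finset.mem_insert_of_mem hj)) (fun j => a j • e j)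
      (fun j g' => by rw [map_smul, he, smul_comm]) h1
    have h4 : ∑ j ∈ c, a j • e j = ∑ j ∈ c, e j := Finset.sum_congr rfl fun j hj => by
      rw [ha]
      simp only [hc j hj, inv_mul_cancel₀ hd, one_smul]
    rwa [h4] at h3

end Groth.Agent.CommutatorLib
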